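import Groth.Agent.RGBlowLib.Union.Shrink

/-!
# Blow-ups which do not touch an open
-/

set_option autoImplicit false
set_option linter.style.haveILetI false
set_option backward.isDefEq.respectTransparency false
set_option maxHeartbeats 800000

universe u

open CategoryTheory CategoryTheory.Limits AlgebraicGeometry TopologicalSpace

noncomputable section

namespace Groth.Agent.RGBlowLib.Union

variable {X Y S T W P : Scheme.{u}}

theorem isNoetherian_of_ft [IsNoetherian S] (f : X ⟶ S) [LocallyOfFiniteType f] [QuasiCompact f] : IsNoetherian X := by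
  haveI := LocallyOfFiniteType.isLocallyNoetherian f
  haveI : CompactSpace X := QuasiCompact.compactSpace_of_compactSpace f
  exact ⟨⟩

theorem isBlowUp_restrict {X' : Scheme.{u}} {K : X.IdealSheafData} {b : X' ⟶ X} (hb : BlowUp.IsBlowUp b K)
    (O : X.Opens) : BlowUp.IsBlowUp (b ∣_ O) (K.comap O.ι) := by
  have h := S8857.isBlowUp_iso (S1680.result O.ι K b hb) (isPullback_morphismRestrict b O).isoPullback
  rwa [IsPullback.isoPullback_hom_fst] at h

theorem isIso_of_effCartier {X' : Scheme.{u}} {K : X.IdealSheafData} {b : X' ⟶ X} (hb : BlowUp.IsBlowUp b K)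
    (hK : BlowUp.IsEffCartierIdeal K) : IsIso b := by
  obtain ⟨s, hs, -⟩ := hb.2 X (𝟙 X) (by rwa [Scheme.IdealSheafData.comap_id])
  exact ⟨s, (hb.2 X' b hb.1).unique (by rw [Category.assoc, hs, Category.comp_id]) (Category.id_comp b), hs⟩

theorem comap_range_eq_top (K : X.IdealSheafData) (j : T ⟶ X) (R : X.Opens) (h : BlowUp.IsAdmissibleFor R K)
    (hj : ∀ x, j x ∈ R) : K.comap j = ⊤ :=
  BlowCompLib.comap_eq_top K j fun x hx => Set.disjoint_left.1 h.2 hx (hj x)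

theorem effCartier_of_adm (K : X.IdealSheafData) (j : T ⟶ X) (R : X.Opens) (h : BlowUp.IsAdmissibleFor R K)
    (hj : ∀ x, j x ∈ R) : BlowUp.IsEffCartierIdeal (K.comap j) := by
  rw [comap_range_eq_top K j R h hj]
  exact BlowCompLib.isEffCartier_top

theorem isIso_restrict_adm {X' : Scheme.{u}} {K : X.IdealSheafData} {b : X' ⟶ X} (hb : BlowUp.IsBlowUp b K)
    (R : X.Opens) (h : BlowUp.IsAdmissibleFor R K) : IsIso (b ∣_ R) :=
  isIso_of_effCartier (isBlowUp_restrict hb R) (effCartier_of_adm K R.ι R h fun x => x.2)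

/-- An open off the centre lifts to the blow-up. -/
theorem exists_lift_open {X' : Scheme.{u}} {K : X.IdealSheafData} {b : X' ⟶ X} (hb : BlowUp.IsBlowUp b K)
    (j : T ⟶ X) [IsOpenImmersion j] (h : BlowUp.IsAdmissibleFor j.opensRange K) :
    ∃ (j' : T ⟶ X') (_ : IsOpenImmersion j'), j' ≫ b = j ∧ j'.opensRange = b ⁻¹ᵁ j.opensRange := by
  haveI := isIso_restrict_adm hb _ h
  refine ⟨(j.isoOpensRange.hom ≫ inv (b ∣_ j.opensRange)) ≫ (b ⁻¹ᵁ j.opensRange).ι, inferInstance, ?_, ?_⟩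
  · simp only [Category.assoc]
    rw [← morphismRestrict_ι, IsIso.inv_hom_id_assoc, Scheme.Hom.isoOpensRange_hom_ι]
  · exact (Scheme.Hom.opensRange_comp_of_isIso _ _).trans (Scheme.Opens.opensRange_ι _)

theorem isIso_square {X' P' : Scheme.{u}} (p : P ⟶ X) (R : X.Opens) [IsIso (p ∣_ R)] (b : X' ⟶ X) [IsIso (b ∣_ R)]
    (π : P' ⟶ P) [IsIso (π ∣_ (p ⁻¹ᵁ R))] (p' : P' ⟶ X') (h : p' ≫ b = π ≫ p) : IsIso (p' ∣_ (b ⁻¹ᵁ R)) := by
  haveI h1 : IsIso ((p' ≫ b) ∣_ R) := by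
    rw [h, morphismRestrict_comp]
    infer_instance
  rw [morphismRestrict_comp] at h1
  haveI := h1
  exact IsIso.of_isIso_comp_right _ (b ∣_ R)

theorem isIso_restrict_sub (f : X ⟶ Y) (V R : Y.Opens) [IsIso (f ∣_ R)] (h : R ≤ V) :
    IsIso ((f ∣_ V) ∣_ (V.ι ⁻¹ᵁ R)) := by
  have e : V.ι ''ᵁ (V.ι ⁻¹ᵁ R) = R := by
    rw [Scheme.Hom.image_preimage_eq_opensRange_inf, Scheme.Opens.opensRange_ι, inf_eq_right.2 h]
  exact (MorphismProperty.arrow_mk_iso_iff (MorphismProperty.isomorphisms Scheme.{u})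
    (morphismRestrictRestrict f V (V.ι ⁻¹ᵁ R) ≪≫ morphismRestrictEq f e)).2 (show IsIso (f ∣_ R) from inferInstance)

/-- A point over an open over which a section is inverse lies on the section. -/
theorem eq_of_mem_iso (p : P ⟶ X) (t : W ⟶ P) (j : W ⟶ X) [IsOpenImmersion j] (ht : t ≫ p = j)
    [IsIso (p ∣_ j.opensRange)] (x : P) (w : W) (hx : p x = j w) : x = t w := by
  have h1 : p (t w) = j w := by rw [← Scheme.Hom.comp_apply, ht]
  have hxR : p x ∈ j.opensRange := ⟨w, hx.symm⟩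
  have htR : p (t w) ∈ j.opensRange := ⟨w, h1.symm⟩
  exact congrArg Subtype.val ((p ∣_ j.opensRange).isOpenEmbedding.injective
    (show (p ∣_ j.opensRange) ⟨x, hxR⟩ = (p ∣_ j.opensRange) ⟨t w, htR⟩ from Subtype.ext (by
      rw [morphismRestrict_base_coe, morphismRestrict_base_coe]
      exact hx.trans h1.symm)))

/-- Morphisms defined on two opens which agree on their intersection glue. -/
theorem exists_desc_two (O₁ O₂ : P.Opens) (h : ∀ z : P, z ∈ O₁ ∨ z ∈ O₂) (g₁ : (O₁ : Scheme.{u}) ⟶ T)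
    (g₂ : (O₂ : Scheme.{u}) ⟶ T)
    (hg : P.homOfLE (inf_le_left : O₁ ⊓ O₂ ≤ O₁) ≫ g₁ = P.homOfLE (inf_le_right : O₁ ⊓ O₂ ≤ O₂) ≫ g₂) :
    ∃ g : P ⟶ T, O₁.ι ≫ g = g₁ ∧ O₂.ι ≫ g = g₂ := by
  let 𝒰 : P.OpenCover := Scheme.Cover.mkOfCovers (ULift.{u} Bool) (fun i => bif i.down then (O₁ : Scheme.{u}) else O₂)
    (fun ⟨i⟩ => match i with | true => O₁.ι | false => O₂.ι)
    (fun p => by
      rcases h p with hp | hp
      · exact ⟨⟨true⟩, ⟨p, hp⟩, rfl⟩
      · exact ⟨⟨false⟩, ⟨p, hp⟩, rfl⟩)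
    (fun ⟨i⟩ => match i with | true => inferInstanceAs (IsOpenImmersion O₁.ι) | false => inferInstanceAs (IsOpenImmersion O₂.ι))
  have key : ∀ {Z : Scheme.{u}} (a : Z ⟶ O₁) (b : Z ⟶ O₂), a ≫ O₁.ι = b ≫ O₂.ι → a ≫ g₁ = b ≫ g₂ := fun {Z} a b hab => by
    have hr : Set.range (a ≫ O₁.ι) ⊆ Set.range (O₁ ⊓ O₂).ι := by
      rintro _ ⟨z, rfl⟩
      rw [Scheme.Opens.range_ι]
      refine ⟨(a z).2, ?_⟩
      rw [hab]
      exact (b z).2
    let l := IsOpenImmersion.lift (O₁ ⊓ O₂).ι (a ≫ O₁.ι) hr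
    have h1 : a = l ≫ P.homOfLE inf_le_left := by
      rw [← cancel_mono O₁.ι, Category.assoc, Scheme.homOfLE_ι, IsOpenImmersion.lift_fac]
    have h2 : b = l ≫ P.homOfLE inf_le_right := by
      rw [← cancel_mono O₂.ι, Category.assoc, Scheme.homOfLE_ι, IsOpenImmersion.lift_fac, hab]
    rw [h1, h2, Category.assoc, Category.assoc, hg]
  let G : ∀ i, 𝒰.X i ⟶ T := fun ⟨i⟩ => match i with | true => g₁ | false => g₂
  have hG : ∀ i j, pullback.fst (𝒰.f i) (𝒰.f j) ≫ G i = pullback.snd (𝒰.f i) (𝒰.f j) ≫ G j := by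
    rintro ⟨i⟩ ⟨j⟩
    cases i <;> cases j
    · exact congrArg (· ≫ g₂) ((cancel_mono O₂.ι).1 (pullback.condition (f := O₂.ι) (g := O₂.ι)))
    · exact (key _ _ (pullback.condition (f := O₂.ι) (g := O₁.ι)).symm).symm
    · exact key _ _ (pullback.condition (f := O₁.ι) (g := O₂.ι))
    · exact congrArg (· ≫ g₁) ((cancel_mono O₁.ι).1 (pullback.condition (f := O₁.ι) (g := O₁.ι)))
  exact ⟨𝒰.glueMorphisms G hG, 𝒰.ι_glueMorphisms G hG ⟨true⟩, 𝒰.ι_glueMorphisms G hG ⟨false⟩⟩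

/-- A proper birational morphism and one blow-up which is a blow-up of both. -/
theorem exists_blowUp_iso [CompactSpace X] [QuasiSeparatedSpace X] (φ : P ⟶ X) [IsProper φ] (R : X.Opens)
    (hR : IsCompact (R : Set X)) [IsIso (φ ∣_ R)] :
    ∃ (𝓘 : X.IdealSheafData) (X' : Scheme.{u}) (b : X' ⟶ X) (m : X' ⟶ P), BlowUp.IsBlowUp b 𝓘 ∧
      BlowUp.IsAdmissibleFor R 𝓘 ∧ m ≫ φ = b ∧ BlowUp.IsBlowUp m (𝓘.comap φ) := by
  obtain ⟨𝓘, X', b, hb, hadm, -, H⟩ := exists_isIso_strict φ R hR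
  have hc := IsPullback.of_hasPullback φ b
  obtain ⟨𝒥, hJ⟩ := exists_killed_of_fg ((𝓘.comap φ).comap (pullback.fst φ b)) (by
    rw [← Scheme.IdealSheafData.comap_comp, pullback.condition, Scheme.IdealSheafData.comap_comp]
    exact ModPairLib.fg_of_isLP ((ModPairLib.isLP_of_cart hb.1).comap _))
  haveI := H _ _ _ hc 𝒥 hJ
  haveI : IsOpenImmersion (𝒥.subschemeι ≫ pullback.snd φ b) := inferInstance
  let g := 𝒥.subschemeι ≫ pullback.snd φ b
  refine ⟨𝓘, X', b, inv g ≫ 𝒥.subschemeι ≫ pullback.fst φ b, hb, hadm, ?_,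
    S8857.isBlowUp_iso (isBlowUp_killed φ hb 𝒥 hJ) (asIso g).symm⟩
  simp only [Category.assoc, pullback.condition]
  exact IsIso.inv_hom_id_assoc g b

end Groth.Agent.RGBlowLib.Union
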