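import Groth.Agent.RGBlowLib.Union.Setup

/-!
# A compactification of a union of two opens
-/

set_option autoImplicit false
set_option linter.style.haveILetI false
set_option backward.isDefEq.respectTransparency false
set_option maxHeartbeats 1600000

universe u

open CategoryTheory CategoryTheory.Limits AlgebraicGeometry TopologicalSpace

noncomputable section

namespace Groth.Agent.RGBlowLib.Union

variable {U S : Scheme.{u}}

/-- One side of the modification making the middle isomorphic: the extension of the first centre. -/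
theorem exists_first {T W P Y : Scheme.{u}} [IsNoetherian Y] (p : P ⟶ Y) [IsProper p] (V : Y.Opens)
    (j : T ⟶ Y) [IsOpenImmersion j] (i : W ⟶ T) [IsOpenImmersion i] [IsIso (p ∣_ (i ≫ j).opensRange)]
    (hRV : ∀ u : T, j u ∈ V ↔ u ∈ Set.range i) :
    ∃ (A : Y.IdealSheafData) (Ya : Scheme.{u}) (c : Ya ⟶ Y)
      (m : ((c ⁻¹ᵁ V : Ya.Opens) : Scheme.{u}) ⟶ (p ⁻¹ᵁ V : P.Opens)),
      BlowUp.IsBlowUp c A ∧ BlowUp.IsAdmissibleFor j.opensRange A ∧ m ≫ (p ∣_ V) = c ∣_ V ∧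
      BlowUp.IsBlowUp m ((A.comap p).comap (p ⁻¹ᵁ V).ι) := by
  haveI : IsLocallyNoetherian (V : Scheme.{u}) := isLocallyNoetherian_of_isOpenImmersion V.ι
  haveI : CompactSpace (V : Scheme.{u}) := isCompact_iff_compactSpace.1 (NoetherianSpace.isCompact _)
  haveI : IsNoetherian (V : Scheme.{u}) := ⟨⟩
  let R := (i ≫ j).opensRange
  have hle : R ≤ V := by
    rintro _ ⟨w, rfl⟩
    exact (hRV (i w)).2 ⟨w, rfl⟩
  haveI : IsIso ((p ∣_ V) ∣_ (V.ι ⁻¹ᵁ R)) := isIso_restrict_sub p V R hle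
  haveI : IsProper (p ∣_ V) := IsZariskiLocalAtTarget.restrict (P := @IsProper) inferInstance V
  obtain ⟨I, V', b, m, hb, hI, hmb, hm⟩ := exists_blowUp_iso (p ∣_ V) (V.ι ⁻¹ᵁ R) (NoetherianSpace.isCompact _)
  have hI' : BlowUp.IsAdmissibleFor (V.ι ⁻¹ᵁ j.opensRange) I := ⟨hI.1, hI.2.mono_right fun v hv => by
    obtain ⟨u, hu⟩ := hv
    obtain ⟨w, hw⟩ := (hRV u).1 (show j u ∈ V from by rw [hu]; exact v.2)
    exact ⟨w, by rw [Scheme.Hom.comp_apply, hw, hu]⟩⟩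
  obtain ⟨A, hA, hAcomap, hres⟩ := S8857.result Y j.opensRange V (NoetherianSpace.isCompact _)
    (NoetherianSpace.isCompact _) I hI'
  obtain ⟨Ya, c, hc⟩ := S8859.result Y A
  obtain ⟨e, he⟩ := S8858.exists_iso_blowUp (hres Ya c hc) hb
  refine ⟨A, Ya, c, e.hom ≫ m, hc, hA, by rw [Category.assoc, hmb, he], ?_⟩
  have h := S8857.isBlowUp_iso hm e
  have eq : (A.comap p).comap (p ⁻¹ᵁ V).ι = I.comap (p ∣_ V) := by
    rw [← hAcomap, ← Scheme.IdealSheafData.comap_comp, ← Scheme.IdealSheafData.comap_comp, morphismRestrict_ι]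
  rw [eq]
  exact h

/-- One side of the modification making the middle isomorphic: the extension of the second centre. -/
theorem exists_second {T W P Pa Y Ya : Scheme.{u}} [IsNoetherian Y] [IsNoetherian P] (p : P ⟶ Y) (V : Y.Opens)
    (j : T ⟶ Y) [IsOpenImmersion j] (i : W ⟶ T) [IsOpenImmersion i] (hRV : ∀ u : T, j u ∈ V ↔ u ∈ Set.range i)
    (t : W ⟶ P) (ht : t ≫ p = i ≫ j) [IsIso (p ∣_ (i ≫ j).opensRange)]
    (A : Y.IdealSheafData) (c : Ya ⟶ Y) (hc : BlowUp.IsBlowUp c A) (hA : BlowUp.IsAdmissibleFor j.opensRange A)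
    (m : ((c ⁻¹ᵁ V : Ya.Opens) : Scheme.{u}) ⟶ (p ⁻¹ᵁ V : P.Opens)) (hmc : m ≫ (p ∣_ V) = c ∣_ V)
    (hm : BlowUp.IsBlowUp m ((A.comap p).comap (p ⁻¹ᵁ V).ι))
    (B : P.IdealSheafData) (hB : BlowUp.IsFiniteTypeIdeal B) (hBt : ∀ w, t w ∉ B.support)
    (π : Pa ⟶ P) (hπ : BlowUp.IsBlowUp π (A.comap p * B)) (f : Pa ⟶ Ya) (hf : f ≫ c = π ≫ p) :
    ∃ (E : Ya.IdealSheafData) (Yb : Scheme.{u}) (d : Yb ⟶ Ya),
      BlowUp.IsBlowUp d E ∧ BlowUp.IsAdmissibleFor (c ⁻¹ᵁ j.opensRange) E ∧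
      BlowUp.IsEffCartierIdeal (E.comap ((π ⁻¹ᵁ (p ⁻¹ᵁ V)).ι ≫ f)) ∧
      ∃ γ : ((π ⁻¹ᵁ (p ⁻¹ᵁ V) : Pa.Opens) : Scheme.{u}) ⟶ Yb, IsOpenImmersion γ ∧
        γ ≫ d = (π ⁻¹ᵁ (p ⁻¹ᵁ V)).ι ≫ f := by
  let O := p ⁻¹ᵁ V
  let Va : Ya.Opens := c ⁻¹ᵁ V
  let K := B.comap O.ι
  haveI : IsProper c := isProper_blowUp hc hA
  haveI : IsNoetherian Ya := isNoetherian_of_ft c
  have hK : BlowUp.IsAdmissibleFor (Va.ι ⁻¹ᵁ (c ⁻¹ᵁ j.opensRange)) (K.comap m) := by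
    refine ⟨ModPairLib.fg_comap _ m (ModPairLib.fg_comap B O.ι hB), Set.disjoint_left.2 fun v hv hvR => ?_⟩
    rw [Scheme.IdealSheafData.support_comap, Scheme.IdealSheafData.support_comap] at hv
    obtain ⟨u, hu⟩ := hvR
    obtain ⟨w, hw⟩ := (hRV u).1 (show j u ∈ V from by rw [hu]; exact v.2)
    have h1 : p (m v).1 = (i ≫ j) w := by
      rw [Scheme.Hom.comp_apply, hw, hu, ← morphismRestrict_base_coe, ← Scheme.Hom.comp_apply, hmc,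
        morphismRestrict_base_coe]
      rfl
    exact hBt w (eq_of_mem_iso p t (i ≫ j) ht _ w h1 ▸ hv)
  obtain ⟨E, hE, hEcomap, hres⟩ := S8857.result Ya (c ⁻¹ᵁ j.opensRange) Va (NoetherianSpace.isCompact _)
    (NoetherianSpace.isCompact _) _ hK
  obtain ⟨Yb, d, hd⟩ := S8859.result Ya E
  have hn : BlowUp.IsBlowUp ((d ∣_ Va) ≫ m) ((A.comap p).comap O.ι * K) :=
    S1683.result _ K m hm _ (hres Yb d hd)
  have hπO : BlowUp.IsBlowUp (π ∣_ O) ((A.comap p).comap O.ι * K) := by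
    have h := isBlowUp_restrict hπ O
    rwa [BlowCompLib.comap_mul] at h
  obtain ⟨γ, hγ⟩ := S8858.exists_iso_blowUp hπO hn
  let l := γ.hom ≫ (d ∣_ Va)
  have hl : l ≫ m = π ∣_ O := by rw [Category.assoc, hγ]
  have hcart : BlowUp.IsEffCartierIdeal (A.comap ((π ⁻¹ᵁ O).ι ≫ π ≫ p)) := by
    have h : BlowUp.IsEffCartierIdeal (A.comap (π ≫ p)) := by
      rw [Scheme.IdealSheafData.comap_comp]
      have h := hπ.1
      rw [BlowCompLib.comap_mul] at h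
      exact BlowCompLib.isEffCartier_of_mul h
    rw [Scheme.IdealSheafData.comap_comp]
    exact BlowCompLib.isEffCartier_comap_openImmersion h _
  have hlf : l ≫ Va.ι = (π ⁻¹ᵁ O).ι ≫ f := (hc.2 _ _ hcart).unique
    (by
      rw [Category.assoc, ← morphismRestrict_ι, ← hmc]
      simp only [Category.assoc, morphismRestrict_ι]
      rw [reassoc_of% hl, morphismRestrict_ι_assoc])
    (by rw [Category.assoc, hf])
  have hBcart : BlowUp.IsEffCartierIdeal (B.comap π) := by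
    have h := hπ.1
    rw [BlowCompLib.comap_mul, mul_comm] at h
    exact BlowCompLib.isEffCartier_of_mul h
  refine ⟨E, Yb, d, hd, hE, ?_, γ.hom ≫ (d ⁻¹ᵁ Va).ι, inferInstance, ?_⟩
  · rw [← hlf, Scheme.IdealSheafData.comap_comp, hEcomap, ← Scheme.IdealSheafData.comap_comp, hl,
      ← Scheme.IdealSheafData.comap_comp, morphismRestrict_ι, Scheme.IdealSheafData.comap_comp]
    exact BlowCompLib.isEffCartier_comap_openImmersion hBcart _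
  · rw [Category.assoc, ← morphismRestrict_ι, ← Category.assoc]
    exact hlf

theorem exists_compactification [IsNoetherian S] (g : U ⟶ S) [IsSeparated g] [LocallyOfFiniteType g] [QuasiCompact g]
    (U₁ U₂ : U.Opens) (hcov : ∀ u : U, u ∈ U₁ ∨ u ∈ U₂) (hdense : Dense ((U₁ ⊓ U₂ : U.Opens) : Set U))
    (D : Setup g U₁ U₂) :
    ∃ (Y : Scheme.{u}) (j : U ⟶ Y) (p : Y ⟶ S), IsOpenImmersion j ∧ QuasiCompact j ∧ IsProper p ∧ j ≫ p = g := by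
  obtain ⟨Y₁, Y₂, P, π₁, π₂, p₁, p₂, hp, hπ₁, hπ₂, hP, j₁, j₂, hjo₁, hjo₂, hj₁, hj₂, t, ht₁, ht₂, hiso₁, hiso₂, cross,
    G₁, G₂, hG₁c, hG₂c, hG₁, hG₂, hK⟩ := D
  haveI := hπ₁
  haveI := hπ₂
  haveI := hP
  haveI := hjo₁
  haveI := hjo₂
  haveI := hiso₁
  haveI := hiso₂
  haveI : IsProper p₁ := IsProper.of_comp p₁ π₁
  haveI : IsProper (p₂ ≫ π₂) := hp ▸ hP
  haveI : IsProper p₂ := IsProper.of_comp p₂ π₂
  haveI : IsNoetherian U := isNoetherian_of_ft g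
  haveI : IsNoetherian Y₁ := isNoetherian_of_ft π₁
  haveI : IsNoetherian Y₂ := isNoetherian_of_ft π₂
  haveI : IsNoetherian P := isNoetherian_of_ft (p₁ ≫ π₁)
  let W : U.Opens := U₁ ⊓ U₂
  let i₁ : (W : Scheme.{u}) ⟶ U₁ := U.homOfLE inf_le_left
  let i₂ : (W : Scheme.{u}) ⟶ U₂ := U.homOfLE inf_le_right
  let V₁ : Y₁.Opens := ⟨G₁ᶜ, hG₁c.isOpen_compl⟩
  let V₂ : Y₂.Opens := ⟨G₂ᶜ, hG₂c.isOpen_compl⟩
  have hRV₁ : ∀ u : U₁, j₁ u ∈ V₁ ↔ u ∈ Set.range i₁ := fun u => by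
    show j₁ u ∉ G₁ ↔ _
    rw [hG₁, not_not]
    exact ⟨fun h => ⟨⟨u.1, u.2, h⟩, Subtype.ext (by simp [i₁])⟩, fun ⟨w, hw⟩ => by rw [← hw]; simpa [i₁] using w.2.2⟩
  have hRV₂ : ∀ u : U₂, j₂ u ∈ V₂ ↔ u ∈ Set.range i₂ := fun u => by
    show j₂ u ∉ G₂ ↔ _
    rw [hG₂, not_not]
    exact ⟨fun h => ⟨⟨u.1, h, u.2⟩, Subtype.ext (by simp [i₂])⟩, fun ⟨w, hw⟩ => by rw [← hw]; simpa [i₂] using w.2.1⟩
  obtain ⟨A₁, Y₁a, c₁, m₁, hc₁, hA₁, hmc₁, hm₁⟩ := exists_first p₁ V₁ j₁ i₁ hRV₁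
  obtain ⟨A₂, Y₂a, c₂, m₂, hc₂, hA₂, hmc₂, hm₂⟩ := exists_first p₂ V₂ j₂ i₂ hRV₂
  obtain ⟨Pa, π, hπ⟩ := S8859.result P (A₁.comap p₁ * A₂.comap p₂)
  have hfa₁ : BlowUp.IsEffCartierIdeal (A₁.comap (π ≫ p₁)) := by
    rw [Scheme.IdealSheafData.comap_comp]
    have h := hπ.1
    rw [BlowCompLib.comap_mul] at h
    exact BlowCompLib.isEffCartier_of_mul h
  have hfa₂ : BlowUp.IsEffCartierIdeal (A₂.comap (π ≫ p₂)) := by
    rw [Scheme.IdealSheafData.comap_comp]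
    have h := hπ.1
    rw [BlowCompLib.comap_mul, mul_comm] at h
    exact BlowCompLib.isEffCartier_of_mul h
  obtain ⟨f₁, hf₁, -⟩ := hc₁.2 _ _ hfa₁
  obtain ⟨f₂, hf₂, -⟩ := hc₂.2 _ _ hfa₂
  have htA₁ : ∀ w, t w ∉ (A₁.comap p₁).support := fun w h => by
    rw [Scheme.IdealSheafData.support_comap] at h
    exact Set.disjoint_left.1 hA₁.2 (show p₁ (t w) ∈ A₁.support from h)
      ⟨i₁ w, by rw [← Scheme.Hom.comp_apply, ← Scheme.Hom.comp_apply t, ht₁]⟩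
  have htA₂ : ∀ w, t w ∉ (A₂.comap p₂).support := fun w h => by
    rw [Scheme.IdealSheafData.support_comap] at h
    exact Set.disjoint_left.1 hA₂.2 (show p₂ (t w) ∈ A₂.support from h)
      ⟨i₂ w, by rw [← Scheme.Hom.comp_apply, ← Scheme.Hom.comp_apply t, ht₂]⟩
  obtain ⟨E₁, Y₁b, d₁, hd₁, hE₁, hEc₁, γ₁, hγ₁o, hγ₁⟩ := exists_second p₁ V₁ j₁ i₁ hRV₁ t ht₁ A₁ c₁ hc₁ hA₁ m₁
    hmc₁ hm₁ (A₂.comap p₂) (ModPairLib.fg_comap _ _ hA₂.1) htA₂ π hπ f₁ hf₁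
  obtain ⟨E₂, Y₂b, d₂, hd₂, hE₂, hEc₂, γ₂, hγ₂o, hγ₂⟩ := exists_second p₂ V₂ j₂ i₂ hRV₂ t ht₂ A₂ c₂ hc₂ hA₂ m₂
    hmc₂ hm₂ (A₁.comap p₁) (ModPairLib.fg_comap _ _ hA₁.1) htA₁ π (mul_comm (A₁.comap p₁) _ ▸ hπ) f₂ hf₂
  obtain ⟨Pb, π', hπ'⟩ := S8859.result Pa (E₁.comap f₁ * E₂.comap f₂)
  have hfb₁ : BlowUp.IsEffCartierIdeal (E₁.comap (π' ≫ f₁)) := by
    rw [Scheme.IdealSheafData.comap_comp]
    have h := hπ'.1
    rw [BlowCompLib.comap_mul] at h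
    exact BlowCompLib.isEffCartier_of_mul h
  have hfb₂ : BlowUp.IsEffCartierIdeal (E₂.comap (π' ≫ f₂)) := by
    rw [Scheme.IdealSheafData.comap_comp]
    have h := hπ'.1
    rw [BlowCompLib.comap_mul, mul_comm] at h
    exact BlowCompLib.isEffCartier_of_mul h
  obtain ⟨F₁, hF₁, -⟩ := hd₁.2 _ _ hfb₁
  obtain ⟨F₂, hF₂, -⟩ := hd₂.2 _ _ hfb₂
  -- properness
  haveI : IsProper c₁ := isProper_blowUp hc₁ hA₁
  haveI : IsProper c₂ := isProper_blowUp hc₂ hA₂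
  haveI : IsProper d₁ := isProper_blowUp hd₁ hE₁
  haveI : IsProper d₂ := isProper_blowUp hd₂ hE₂
  haveI : IsProper π := BlowExistsLib.isProper_of_FG hπ fun V => by
    rw [Scheme.IdealSheafData.ideal_mul, Pi.mul_apply]
    exact Submodule.FG.mul (ModPairLib.fg_comap _ _ hA₁.1 V) (ModPairLib.fg_comap _ _ hA₂.1 V)
  haveI : IsProper π' := BlowExistsLib.isProper_of_FG hπ' fun V => by
    rw [Scheme.IdealSheafData.ideal_mul, Pi.mul_apply]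
    exact Submodule.FG.mul (ModPairLib.fg_comap _ _ hE₁.1 V) (ModPairLib.fg_comap _ _ hE₂.1 V)
  let ρ₁ : Y₁b ⟶ S := d₁ ≫ c₁ ≫ π₁
  let ρ₂ : Y₂b ⟶ S := d₂ ≫ c₂ ≫ π₂
  have hFS : F₁ ≫ ρ₁ = F₂ ≫ ρ₂ := by
    simp only [ρ₁, ρ₂]
    rw [reassoc_of% hF₁, reassoc_of% hF₂, reassoc_of% hf₁, reassoc_of% hf₂, hp]
  haveI hPb : IsProper (F₁ ≫ ρ₁) := by
    simp only [ρ₁]
    rw [reassoc_of% hF₁, reassoc_of% hf₁]
    infer_instance
  haveI : IsProper F₁ := IsProper.of_comp F₁ ρ₁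
  haveI : IsProper (F₂ ≫ ρ₂) := hFS ▸ hPb
  haveI : IsProper F₂ := IsProper.of_comp F₂ ρ₂
  let O₁ : Pa.Opens := π ⁻¹ᵁ (p₁ ⁻¹ᵁ V₁)
  let O₂ : Pa.Opens := π ⁻¹ᵁ (p₂ ⁻¹ᵁ V₂)
  have hO : ∀ z : Pa, z ∈ O₁ ∨ z ∈ O₂ := fun z => by
    by_cases h : z ∈ O₁
    · exact Or.inl h
    · exact Or.inr (hK (π z) (not_not.1 h))
  -- the maps over the two opens
  have hres₁ : (π' ∣_ O₁) ≫ γ₁ = (π' ⁻¹ᵁ O₁).ι ≫ F₁ := by
    have h : BlowUp.IsEffCartierIdeal (E₁.comap ((π' ⁻¹ᵁ O₁).ι ≫ π' ≫ f₁)) := by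
      rw [Scheme.IdealSheafData.comap_comp]
      exact BlowCompLib.isEffCartier_comap_openImmersion hfb₁ _
    exact (hd₁.2 _ _ h).unique (by rw [Category.assoc, hγ₁, morphismRestrict_ι_assoc]) (by rw [Category.assoc, hF₁])
  have hres₂ : (π' ∣_ O₂) ≫ γ₂ = (π' ⁻¹ᵁ O₂).ι ≫ F₂ := by
    have h : BlowUp.IsEffCartierIdeal (E₂.comap ((π' ⁻¹ᵁ O₂).ι ≫ π' ≫ f₂)) := by
      rw [Scheme.IdealSheafData.comap_comp]
      exact BlowCompLib.isEffCartier_comap_openImmersion hfb₂ _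
    exact (hd₂.2 _ _ h).unique (by rw [Category.assoc, hγ₂, morphismRestrict_ι_assoc]) (by rw [Category.assoc, hF₂])
  haveI hmid : IsIso (π' ∣_ (O₁ ⊓ O₂)) := by
    refine isIso_of_effCartier (isBlowUp_restrict hπ' _) ?_
    rw [BlowCompLib.comap_mul, ← Scheme.IdealSheafData.comap_comp, ← Scheme.IdealSheafData.comap_comp]
    refine BlowCompLib.isEffCartier_mul ?_ ?_
    · rw [← Pa.homOfLE_ι (inf_le_left : O₁ ⊓ O₂ ≤ O₁), Category.assoc, Scheme.IdealSheafData.comap_comp]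
      exact BlowCompLib.isEffCartier_comap_openImmersion hEc₁ _
    · rw [← Pa.homOfLE_ι (inf_le_right : O₁ ⊓ O₂ ≤ O₂), Category.assoc, Scheme.IdealSheafData.comap_comp]
      exact BlowCompLib.isEffCartier_comap_openImmersion hEc₂ _
  let M : Pb.Opens := π' ⁻¹ᵁ (O₁ ⊓ O₂)
  have hm₁' : M.ι ≫ F₁ = (π' ∣_ (O₁ ⊓ O₂)) ≫ Pa.homOfLE inf_le_left ≫ γ₁ := by
    have hle : M ≤ π' ⁻¹ᵁ O₁ := π'.preimage_mono inf_le_left
    have h2 : (π' ∣_ (O₁ ⊓ O₂)) ≫ Pa.homOfLE inf_le_left = Pb.homOfLE hle ≫ (π' ∣_ O₁) := by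
      rw [← cancel_mono O₁.ι]
      simp only [Category.assoc, Scheme.homOfLE_ι, morphismRestrict_ι]
      rw [← Category.assoc, Scheme.homOfLE_ι]
    rw [reassoc_of% h2, hres₁, ← Category.assoc, Scheme.homOfLE_ι]
  have hm₂' : M.ι ≫ F₂ = (π' ∣_ (O₁ ⊓ O₂)) ≫ Pa.homOfLE inf_le_right ≫ γ₂ := by
    have hle : M ≤ π' ⁻¹ᵁ O₂ := π'.preimage_mono inf_le_right
    have h2 : (π' ∣_ (O₁ ⊓ O₂)) ≫ Pa.homOfLE inf_le_right = Pb.homOfLE hle ≫ (π' ∣_ O₂) := by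
      rw [← cancel_mono O₂.ι]
      simp only [Category.assoc, Scheme.homOfLE_ι, morphismRestrict_ι]
      rw [← Category.assoc, Scheme.homOfLE_ι]
    rw [reassoc_of% h2, hres₂, ← Category.assoc, Scheme.homOfLE_ι]
  haveI := hγ₁o
  haveI := hγ₂o
  haveI : IsOpenImmersion (M.ι ≫ F₁) := by rw [hm₁']; infer_instance
  haveI : IsOpenImmersion (M.ι ≫ F₂) := by rw [hm₂']; infer_instance
  -- the closed sets to be removed
  let K₁ : Set Pb := ((π' ⁻¹ᵁ O₁ : Pb.Opens) : Set Pb)ᶜ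
  let K₂ : Set Pb := ((π' ⁻¹ᵁ O₂ : Pb.Opens) : Set Pb)ᶜ
  have hbase₁ : ∀ z : Pb, c₁ (d₁ (F₁ z)) = p₁ (π (π' z)) := fun z => by
    have h1 : d₁ (F₁ z) = f₁ (π' z) := by rw [← Scheme.Hom.comp_apply, hF₁, Scheme.Hom.comp_apply]
    rw [h1, ← Scheme.Hom.comp_apply, hf₁, Scheme.Hom.comp_apply]
  have hbase₂ : ∀ z : Pb, c₂ (d₂ (F₂ z)) = p₂ (π (π' z)) := fun z => by
    have h1 : d₂ (F₂ z) = f₂ (π' z) := by rw [← Scheme.Hom.comp_apply, hF₂, Scheme.Hom.comp_apply]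
    rw [h1, ← Scheme.Hom.comp_apply, hf₂, Scheme.Hom.comp_apply]
  have hsep₁ : ∀ z, F₁ z ∈ F₁ '' K₂ → z ∈ K₂ := by
    rintro z ⟨k, hk, hkz⟩
    have hk1 : π' k ∈ O₁ := (hO _).resolve_right hk
    have hz1 : π' z ∈ O₁ := by
      show p₁ (π (π' z)) ∈ V₁
      rw [← hbase₁, ← hkz, hbase₁]
      exact hk1
    have e1 : F₁ k = γ₁ ⟨π' k, hk1⟩ := by
      rw [show F₁ k = ((π' ⁻¹ᵁ O₁).ι ≫ F₁) ⟨k, hk1⟩ from rfl, ← hres₁, Scheme.Hom.comp_apply]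
      exact congrArg γ₁ (Subtype.ext (morphismRestrict_base_coe _ _ _))
    have e2 : F₁ z = γ₁ ⟨π' z, hz1⟩ := by
      rw [show F₁ z = ((π' ⁻¹ᵁ O₁).ι ≫ F₁) ⟨z, hz1⟩ from rfl, ← hres₁, Scheme.Hom.comp_apply]
      exact congrArg γ₁ (Subtype.ext (morphismRestrict_base_coe _ _ _))
    have e3 : π' k = π' z := congrArg Subtype.val (γ₁.isOpenEmbedding.injective (e1.symm.trans (hkz.trans e2)))
    intro hz2
    exact hk (show π' k ∈ O₂ from e3 ▸ hz2)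
  have hsep₂ : ∀ z, F₂ z ∈ F₂ '' K₁ → z ∈ K₁ := by
    rintro z ⟨k, hk, hkz⟩
    have hk1 : π' k ∈ O₂ := (hO _).resolve_left hk
    have hz1 : π' z ∈ O₂ := by
      show p₂ (π (π' z)) ∈ V₂
      rw [← hbase₂, ← hkz, hbase₂]
      exact hk1
    have e1 : F₂ k = γ₂ ⟨π' k, hk1⟩ := by
      rw [show F₂ k = ((π' ⁻¹ᵁ O₂).ι ≫ F₂) ⟨k, hk1⟩ from rfl, ← hres₂, Scheme.Hom.comp_apply]
      exact congrArg γ₂ (Subtype.ext (morphismRestrict_base_coe _ _ _))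
    have e2 : F₂ z = γ₂ ⟨π' z, hz1⟩ := by
      rw [show F₂ z = ((π' ⁻¹ᵁ O₂).ι ≫ F₂) ⟨z, hz1⟩ from rfl, ← hres₂, Scheme.Hom.comp_apply]
      exact congrArg γ₂ (Subtype.ext (morphismRestrict_base_coe _ _ _))
    have e3 : π' k = π' z := congrArg Subtype.val (γ₂.isOpenEmbedding.injective (e1.symm.trans (hkz.trans e2)))
    intro hz2
    exact hk (show π' k ∈ O₁ from e3 ▸ hz2)
  let N₁ : Y₁b.Opens := ⟨(F₁ '' K₂)ᶜ, (F₁.isClosedMap _ (π' ⁻¹ᵁ O₂).2.isClosed_compl).isOpen_compl⟩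
  let N₂ : Y₂b.Opens := ⟨(F₂ '' K₁)ᶜ, (F₂.isClosedMap _ (π' ⁻¹ᵁ O₁).2.isClosed_compl).isOpen_compl⟩
  have hpre₁ : ∀ z, z ∈ F₁ ⁻¹ᵁ N₁ ↔ z ∉ K₂ := fun z =>
    ⟨fun h h' => h ⟨z, h', rfl⟩, fun h h' => h (hsep₁ z h')⟩
  have hpre₂ : ∀ z, z ∈ F₂ ⁻¹ᵁ N₂ ↔ z ∉ K₁ := fun z =>
    ⟨fun h h' => h ⟨z, h', rfl⟩, fun h h' => h (hsep₂ z h')⟩
  have hMeq : M = F₁ ⁻¹ᵁ N₁ ⊓ F₂ ⁻¹ᵁ N₂ := by
    ext z
    constructor
    · intro hz
      exact ⟨(hpre₁ z).2 fun h => h hz.2, (hpre₂ z).2 fun h => h hz.1⟩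
    · rintro ⟨h1, h2⟩
      exact ⟨not_not.1 ((hpre₂ z).1 h2), not_not.1 ((hpre₁ z).1 h1)⟩
  have hMN₁ : Set.range (M.ι ≫ F₁) ⊆ Set.range N₁.ι := by
    rintro _ ⟨z, rfl⟩
    rw [Scheme.Opens.range_ι]
    exact (hMeq.le z.2).1
  have hMN₂ : Set.range (M.ι ≫ F₂) ⊆ Set.range N₂.ι := by
    rintro _ ⟨z, rfl⟩
    rw [Scheme.Opens.range_ι]
    exact (hMeq.le z.2).2
  let a₁ : (M : Scheme.{u}) ⟶ N₁ := IsOpenImmersion.lift N₁.ι (M.ι ≫ F₁) hMN₁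
  let a₂ : (M : Scheme.{u}) ⟶ N₂ := IsOpenImmersion.lift N₂.ι (M.ι ≫ F₂) hMN₂
  have ha₁ : a₁ ≫ N₁.ι = M.ι ≫ F₁ := IsOpenImmersion.lift_fac _ _ _
  have ha₂ : a₂ ≫ N₂.ι = M.ι ≫ F₂ := IsOpenImmersion.lift_fac _ _ _
  haveI : IsOpenImmersion (a₁ ≫ N₁.ι) := by rw [ha₁]; infer_instance
  haveI : IsOpenImmersion (a₂ ≫ N₂.ι) := by rw [ha₂]; infer_instance
  haveI : IsOpenImmersion a₁ := IsOpenImmersion.of_comp a₁ N₁.ι
  haveI : IsOpenImmersion a₂ := IsOpenImmersion.of_comp a₂ N₂.ι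
  have hcompat : a₁ ≫ N₁.ι ≫ ρ₁ = a₂ ≫ N₂.ι ≫ ρ₂ := by
    rw [reassoc_of% ha₁, reassoc_of% ha₂, hFS]
  obtain ⟨X, o₁, o₂, ho₁, ho₂, hw, hXcov, hint, hdesc⟩ := exists_glue a₁ a₂
  haveI := ho₁
  haveI := ho₂
  obtain ⟨q, hq₁, hq₂⟩ := hdesc S _ _ hcompat
  haveI : IsSeparated (o₁ ≫ q) := by rw [hq₁]; infer_instance
  haveI : IsSeparated (o₂ ≫ q) := by rw [hq₂]; infer_instance
  haveI : IsClosedImmersion (pullback.lift (f := o₁ ≫ q) (g := o₂ ≫ q) a₁ a₂ (by rw [reassoc_of% hw])) := by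
    let L := pullback.lift (f := o₁ ≫ q) (g := o₂ ≫ q) a₁ a₂ (by rw [reassoc_of% hw])
    let F : Pb ⟶ pullback ρ₁ ρ₂ := pullback.lift F₁ F₂ hFS
    haveI : IsProper (F ≫ pullback.fst ρ₁ ρ₂) := by rw [pullback.lift_fst]; infer_instance
    haveI : IsProper (pullback.fst ρ₁ ρ₂) := MorphismProperty.pullback_fst (P := @IsProper) _ _ inferInstance
    haveI : IsProper F := IsProper.of_comp F (pullback.fst ρ₁ ρ₂)
    let ω : pullback (o₁ ≫ q) (o₂ ≫ q) ⟶ pullback ρ₁ ρ₂ :=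
      pullback.map _ _ _ _ N₁.ι N₂.ι (𝟙 S) (by simp [hq₁]) (by simp [hq₂])
    have hω : IsOpenImmersion ω := inferInstance
    have hsq : IsPullback L M.ι ω F := by
      refine IsOpenImmersion.isPullback L M.ι ω F ?_ ?_
      · apply pullback.hom_ext
        · simp only [L, ω, F, Category.assoc, pullback.lift_fst, pullback.lift_fst_assoc]
          exact ha₁.symm
        · simp only [L, ω, F, Category.assoc, pullback.lift_snd, pullback.lift_snd_assoc]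
          exact ha₂.symm
      · ext z
        constructor
        · rintro ⟨w, hw'⟩
          rw [SetLike.mem_coe, Scheme.Opens.opensRange_ι, hMeq]
          refine ⟨?_, ?_⟩
          · show F₁ z ∈ N₁
            have h := congrArg (pullback.fst ρ₁ ρ₂) hw'
            rw [← Scheme.Hom.comp_apply, ← Scheme.Hom.comp_apply, pullback.lift_fst, pullback.lift_fst] at h
            rw [← h]
            exact ((pullback.fst (o₁ ≫ q) (o₂ ≫ q)) w).2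
          · show F₂ z ∈ N₂
            have h := congrArg (pullback.snd ρ₁ ρ₂) hw'
            rw [← Scheme.Hom.comp_apply, ← Scheme.Hom.comp_apply, pullback.lift_snd, pullback.lift_snd] at h
            rw [← h]
            exact ((pullback.snd (o₁ ≫ q) (o₂ ≫ q)) w).2
        · intro hz
          rw [SetLike.mem_coe, Scheme.Opens.opensRange_ι] at hz
          refine ⟨L ⟨z, hz⟩, ?_⟩
          rw [← Scheme.Hom.comp_apply, show L ≫ ω = M.ι ≫ F by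
            apply pullback.hom_ext
            · simp only [L, ω, F, Category.assoc, pullback.lift_fst, pullback.lift_fst_assoc]
              exact ha₁
            · simp only [L, ω, F, Category.assoc, pullback.lift_snd, pullback.lift_snd_assoc]
              exact ha₂]
          rfl
    haveI : IsProper L := MorphismProperty.of_isPullback (P := @IsProper) hsq.flip inferInstance
    haveI : Mono L := mono_of_mono_fac (pullback.lift_fst a₁ a₂ _ : L ≫ pullback.fst _ _ = a₁)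
    exact (IsClosedImmersion.iff_isProper_and_mono L).2 ⟨inferInstance, inferInstance⟩
  haveI hsepq : IsSeparated q := isSeparated_glue a₁ a₂ o₁ o₂ hw hXcov hint q
  haveI hlft : LocallyOfFiniteType q := by
    let 𝒰 : X.OpenCover := Scheme.Cover.mkOfCovers (ULift.{u} Bool) (fun i => bif i.down then (N₁ : Scheme.{u}) else N₂)
      (fun ⟨i⟩ => match i with | true => o₁ | false => o₂)
      (fun x => by
        rcases hXcov x with ⟨y, hy⟩ | ⟨y, hy⟩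
        · exact ⟨⟨true⟩, y, hy⟩
        · exact ⟨⟨false⟩, y, hy⟩)
      (fun ⟨i⟩ => match i with | true => ‹IsOpenImmersion o₁› | false => ‹IsOpenImmersion o₂›)
    refine IsZariskiLocalAtSource.of_openCover 𝒰 fun ⟨i⟩ => ?_
    cases i
    · show LocallyOfFiniteType (o₂ ≫ q); rw [hq₂]; infer_instance
    · show LocallyOfFiniteType (o₁ ≫ q); rw [hq₁]; infer_instance
  -- the dominating proper scheme
  obtain ⟨F, hFo₁, hFo₂⟩ := exists_desc_two (F₁ ⁻¹ᵁ N₁) (F₂ ⁻¹ᵁ N₂)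
    (fun z => by
      rcases hO (π' z) with h | h
      · exact Or.inr ((hpre₂ z).2 fun h' => h' h)
      · exact Or.inl ((hpre₁ z).2 fun h' => h' h))
    ((F₁ ∣_ N₁) ≫ o₁) ((F₂ ∣_ N₂) ≫ o₂) (by
      let l : ((F₁ ⁻¹ᵁ N₁ ⊓ F₂ ⁻¹ᵁ N₂ : Pb.Opens) : Scheme.{u}) ⟶ M := Pb.homOfLE hMeq.ge
      have h1 : Pb.homOfLE inf_le_left ≫ (F₁ ∣_ N₁) = l ≫ a₁ := by
        rw [← cancel_mono N₁.ι, Category.assoc, Category.assoc, ha₁, morphismRestrict_ι]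
        simp only [l, ← Category.assoc, Scheme.homOfLE_ι]
      have h2 : Pb.homOfLE inf_le_right ≫ (F₂ ∣_ N₂) = l ≫ a₂ := by
        rw [← cancel_mono N₂.ι, Category.assoc, Category.assoc, ha₂, morphismRestrict_ι]
        simp only [l, ← Category.assoc, Scheme.homOfLE_ι]
      rw [reassoc_of% h1, reassoc_of% h2, hw])
  have hFq : F ≫ q = F₁ ≫ ρ₁ := by
    refine Scheme.Cover.hom_ext (Pb.openCoverOfIsOpenCover (fun i : Bool => bif i then F₁ ⁻¹ᵁ N₁ else F₂ ⁻¹ᵁ N₂)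
      (TopologicalSpace.IsOpenCover.mk (top_le_iff.1 fun z _ => ?_))) _ _ fun i => ?_
    · rcases hO (π' z) with h | h
      · exact Opens.mem_iSup.2 ⟨false, (hpre₂ z).2 fun h' => h' h⟩
      · exact Opens.mem_iSup.2 ⟨true, (hpre₁ z).2 fun h' => h' h⟩
    · cases i
      · show (F₂ ⁻¹ᵁ N₂).ι ≫ F ≫ q = (F₂ ⁻¹ᵁ N₂).ι ≫ F₁ ≫ ρ₁
        rw [reassoc_of% hFo₂, hq₂, hFS, morphismRestrict_ι_assoc]
      · show (F₁ ⁻¹ᵁ N₁).ι ≫ F ≫ q = (F₁ ⁻¹ᵁ N₁).ι ≫ F₁ ≫ ρ₁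
        rw [reassoc_of% hFo₁, hq₁, morphismRestrict_ι_assoc]
  -- the opens lift
  obtain ⟨j₁a, hj₁ao, hj₁a, hj₁ar⟩ := exists_lift_open hc₁ j₁ hA₁
  obtain ⟨j₂a, hj₂ao, hj₂a, hj₂ar⟩ := exists_lift_open hc₂ j₂ hA₂
  haveI := hj₁ao
  haveI := hj₂ao
  obtain ⟨j₁b, hj₁bo, hj₁b, -⟩ := exists_lift_open hd₁ j₁a (hj₁ar.symm ▸ hE₁)
  obtain ⟨j₂b, hj₂bo, hj₂b, -⟩ := exists_lift_open hd₂ j₂a (hj₂ar.symm ▸ hE₂)
  haveI := hj₁bo
  haveI := hj₂bo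
  have htA : BlowUp.IsEffCartierIdeal ((A₁.comap p₁ * A₂.comap p₂).comap t) := by
    rw [BlowCompLib.comap_mul, BlowCompLib.comap_eq_top _ _ htA₁, BlowCompLib.comap_eq_top _ _ htA₂]
    exact BlowCompLib.isEffCartier_mul BlowCompLib.isEffCartier_top BlowCompLib.isEffCartier_top
  obtain ⟨ta, hta, -⟩ := hπ.2 _ t htA
  have hta₁ : ta ≫ f₁ = i₁ ≫ j₁a :=
    (hc₁.2 _ (i₁ ≫ j₁) (effCartier_of_adm A₁ _ _ hA₁ fun w => ⟨_, rfl⟩)).unique
      (by rw [Category.assoc, hf₁, reassoc_of% hta, ht₁]) (by rw [Category.assoc, hj₁a])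
  have hta₂ : ta ≫ f₂ = i₂ ≫ j₂a :=
    (hc₂.2 _ (i₂ ≫ j₂) (effCartier_of_adm A₂ _ _ hA₂ fun w => ⟨_, rfl⟩)).unique
      (by rw [Category.assoc, hf₂, reassoc_of% hta, ht₂]) (by rw [Category.assoc, hj₂a])
  have htE₁ : BlowUp.IsEffCartierIdeal (E₁.comap (ta ≫ f₁)) := by
    rw [hta₁]
    exact effCartier_of_adm E₁ _ _ hE₁ fun w => hj₁ar.le ⟨i₁ w, rfl⟩
  have htE₂ : BlowUp.IsEffCartierIdeal (E₂.comap (ta ≫ f₂)) := by
    rw [hta₂]
    exact effCartier_of_adm E₂ _ _ hE₂ fun w => hj₂ar.le ⟨i₂ w, rfl⟩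
  obtain ⟨tb, htb, -⟩ := hπ'.2 _ ta (by
    rw [BlowCompLib.comap_mul, ← Scheme.IdealSheafData.comap_comp, ← Scheme.IdealSheafData.comap_comp]
    exact BlowCompLib.isEffCartier_mul htE₁ htE₂)
  have htb₁ : tb ≫ F₁ = i₁ ≫ j₁b :=
    (hd₁.2 _ _ htE₁).unique (by rw [Category.assoc, hF₁, reassoc_of% htb]) (by rw [Category.assoc, hj₁b, hta₁])
  have htb₂ : tb ≫ F₂ = i₂ ≫ j₂b :=
    (hd₂.2 _ _ htE₂).unique (by rw [Category.assoc, hF₂, reassoc_of% htb]) (by rw [Category.assoc, hj₂b, hta₂])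
  have hj₁base : ∀ u, c₁ (d₁ (j₁b u)) = j₁ u := fun u => by
    rw [← Scheme.Hom.comp_apply j₁b, hj₁b, ← Scheme.Hom.comp_apply, hj₁a]
  have hj₂base : ∀ u, c₂ (d₂ (j₂b u)) = j₂ u := fun u => by
    rw [← Scheme.Hom.comp_apply j₂b, hj₂b, ← Scheme.Hom.comp_apply, hj₂a]
  have hjN₁ : Set.range j₁b ⊆ Set.range N₁.ι := by
    rintro _ ⟨u, rfl⟩
    rw [Scheme.Opens.range_ι]
    rintro ⟨k, hk, hku⟩
    have h2 : p₂ (π (π' k)) ∈ G₂ := not_not.1 hk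
    have h1 : p₁ (π (π' k)) = j₁ u := by rw [← hbase₁, hku, hj₁base]
    obtain ⟨w, rfl⟩ := (hRV₁ u).1 (show j₁ u ∉ G₁ from fun h => hK _ (h1 ▸ h) h2)
    have hx := eq_of_mem_iso p₁ t (i₁ ≫ j₁) ht₁ _ w (by rw [Scheme.Hom.comp_apply]; exact h1)
    rw [hx, ← Scheme.Hom.comp_apply, ht₂, Scheme.Hom.comp_apply] at h2
    exact (hRV₂ _).2 ⟨w, rfl⟩ h2
  have hjN₂ : Set.range j₂b ⊆ Set.range N₂.ι := by
    rintro _ ⟨u, rfl⟩
    rw [Scheme.Opens.range_ι]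
    rintro ⟨k, hk, hku⟩
    have h2 : p₁ (π (π' k)) ∈ G₁ := not_not.1 hk
    have h1 : p₂ (π (π' k)) = j₂ u := by rw [← hbase₂, hku, hj₂base]
    obtain ⟨w, rfl⟩ := (hRV₂ u).1 (show j₂ u ∉ G₂ from fun h => hK _ h2 (h1 ▸ h))
    have hx := eq_of_mem_iso p₂ t (i₂ ≫ j₂) ht₂ _ w (by rw [Scheme.Hom.comp_apply]; exact h1)
    rw [hx, ← Scheme.Hom.comp_apply, ht₁, Scheme.Hom.comp_apply] at h2
    exact (hRV₁ _).2 ⟨w, rfl⟩ h2
  let l₁ := IsOpenImmersion.lift N₁.ι j₁b hjN₁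
  let l₂ := IsOpenImmersion.lift N₂.ι j₂b hjN₂
  haveI : IsOpenImmersion (l₁ ≫ N₁.ι) := by rw [IsOpenImmersion.lift_fac]; infer_instance
  haveI : IsOpenImmersion (l₂ ≫ N₂.ι) := by rw [IsOpenImmersion.lift_fac]; infer_instance
  haveI : IsOpenImmersion l₁ := IsOpenImmersion.of_comp l₁ N₁.ι
  haveI : IsOpenImmersion l₂ := IsOpenImmersion.of_comp l₂ N₂.ι
  have htbM : Set.range tb ⊆ Set.range M.ι := by
    rintro _ ⟨w, rfl⟩
    rw [Scheme.Opens.range_ι, hMeq]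
    refine ⟨?_, ?_⟩
    · show F₁ (tb w) ∈ N₁
      rw [← Scheme.Hom.comp_apply, htb₁, Scheme.Hom.comp_apply]
      have h := hjN₁ ⟨i₁ w, rfl⟩
      rwa [Scheme.Opens.range_ι] at h
    · show F₂ (tb w) ∈ N₂
      rw [← Scheme.Hom.comp_apply, htb₂, Scheme.Hom.comp_apply]
      have h := hjN₂ ⟨i₂ w, rfl⟩
      rwa [Scheme.Opens.range_ι] at h
  let lM := IsOpenImmersion.lift M.ι tb htbM
  have hl₁ : lM ≫ a₁ = i₁ ≫ l₁ := by
    rw [← cancel_mono N₁.ι, Category.assoc, Category.assoc, ha₁, IsOpenImmersion.lift_fac,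
      IsOpenImmersion.lift_fac_assoc, htb₁]
  have hl₂ : lM ≫ a₂ = i₂ ≫ l₂ := by
    rw [← cancel_mono N₂.ι, Category.assoc, Category.assoc, ha₂, IsOpenImmersion.lift_fac,
      IsOpenImmersion.lift_fac_assoc, htb₂]
  obtain ⟨j, hjl₁, hjl₂⟩ := exists_desc_two U₁ U₂ hcov (l₁ ≫ o₁) (l₂ ≫ o₂) (by
    show i₁ ≫ l₁ ≫ o₁ = i₂ ≫ l₂ ≫ o₂
    rw [← reassoc_of% hl₁, ← reassoc_of% hl₂, hw])
  have hjq : j ≫ q = g := by
    refine Scheme.Cover.hom_ext (U.openCoverOfIsOpenCover (fun i : Bool => bif i then U₁ else U₂)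
      (TopologicalSpace.IsOpenCover.mk (top_le_iff.1 fun z _ => ?_))) _ _ fun i => ?_
    · rcases hcov z with h | h
      · exact Opens.mem_iSup.2 ⟨true, h⟩
      · exact Opens.mem_iSup.2 ⟨false, h⟩
    · cases i
      · show U₂.ι ≫ j ≫ q = U₂.ι ≫ g
        rw [reassoc_of% hjl₂, hq₂, IsOpenImmersion.lift_fac_assoc, ← hj₂]
        simp only [ρ₂]
        rw [reassoc_of% hj₂b, reassoc_of% hj₂a]
      · show U₁.ι ≫ j ≫ q = U₁.ι ≫ g
        rw [reassoc_of% hjl₁, hq₁, IsOpenImmersion.lift_fac_assoc, ← hj₁]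
        simp only [ρ₁]
        rw [reassoc_of% hj₁b, reassoc_of% hj₁a]
  have hcrossN : ∀ (u₁ : U₁) (u₂ : U₂), o₁ (l₁ u₁) = o₂ (l₂ u₂) → u₁.1 = u₂.1 := fun u₁ u₂ h => by
    obtain ⟨z, hz₁, hz₂⟩ := hint _ _ h
    refine cross (π (π' (M.ι z))) u₁ u₂ ?_ ?_
    · rw [← hbase₁, ← Scheme.Hom.comp_apply M.ι, ← ha₁, Scheme.Hom.comp_apply, hz₁, ← Scheme.Hom.comp_apply l₁,
        IsOpenImmersion.lift_fac, hj₁base]
    · rw [← hbase₂, ← Scheme.Hom.comp_apply M.ι, ← ha₂, Scheme.Hom.comp_apply, hz₂, ← Scheme.Hom.comp_apply l₂,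
        IsOpenImmersion.lift_fac, hj₂base]
  have hval₁ : ∀ u : U₁, j u.1 = o₁ (l₁ u) := fun u =>
    (congrArg (fun k : (U₁ : Scheme.{u}) ⟶ X => k u) hjl₁).trans (Scheme.Hom.comp_apply _ _ _)
  have hval₂ : ∀ u : U₂, j u.1 = o₂ (l₂ u) := fun u =>
    (congrArg (fun k : (U₂ : Scheme.{u}) ⟶ X => k u) hjl₂).trans (Scheme.Hom.comp_apply _ _ _)
  have hinj : Function.Injective j := fun x y h => by
    rcases hcov x with hx | hx <;> rcases hcov y with hy | hy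
    · rw [hval₁ ⟨x, hx⟩, hval₁ ⟨y, hy⟩] at h
      exact congrArg Subtype.val (l₁.isOpenEmbedding.injective (o₁.isOpenEmbedding.injective h))
    · rw [hval₁ ⟨x, hx⟩, hval₂ ⟨y, hy⟩] at h
      exact hcrossN ⟨x, hx⟩ ⟨y, hy⟩ h
    · rw [hval₂ ⟨x, hx⟩, hval₁ ⟨y, hy⟩] at h
      exact (hcrossN ⟨y, hy⟩ ⟨x, hx⟩ h.symm).symm
    · rw [hval₂ ⟨x, hx⟩, hval₂ ⟨y, hy⟩] at h
      exact congrArg Subtype.val (l₂.isOpenEmbedding.injective (o₂.isOpenEmbedding.injective h))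
  haveI : IsOpenImmersion j := by
    refine IsOpenImmersion.of_openCover_source j (U.openCoverOfIsOpenCover (fun i : Bool => bif i then U₁ else U₂)
      (TopologicalSpace.IsOpenCover.mk (top_le_iff.1 fun z _ => ?_))) hinj fun i => ?_
    · rcases hcov z with h | h
      · exact Opens.mem_iSup.2 ⟨true, h⟩
      · exact Opens.mem_iSup.2 ⟨false, h⟩
    · cases i
      · show IsOpenImmersion (U₂.ι ≫ j); rw [hjl₂]; infer_instance
      · show IsOpenImmersion (U₁.ι ≫ j); rw [hjl₁]; infer_instance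
  haveI : QuasiCompact j := inferInstance
  -- the range of `F` is closed and contains the open
  haveI : CompactSpace Pb := QuasiCompact.compactSpace_of_compactSpace (F₁ ≫ ρ₁)
  haveI : IsProper (F ≫ q) := by rw [hFq]; infer_instance
  haveI : IsProper F := IsProper.of_comp F q
  have hFM : M.ι ≫ F = a₁ ≫ o₁ := by
    have hle : M ≤ F₁ ⁻¹ᵁ N₁ := fun z hz => (hMeq.le hz).1
    rw [← Pb.homOfLE_ι hle, Category.assoc, hFo₁, ← Category.assoc]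
    congr 1
    rw [← cancel_mono N₁.ι, Category.assoc, morphismRestrict_ι, ha₁, ← Category.assoc, Scheme.homOfLE_ι]
  have hsub : Set.range j ⊆ closure (Set.range F) := by
    rintro _ ⟨x, rfl⟩
    refine closure_mono ?_ (image_closure_subset_closure_image j.continuous ⟨x, hdense x, rfl⟩)
    rintro _ ⟨y, hy, rfl⟩
    refine ⟨M.ι (lM ⟨y, hy⟩), ?_⟩
    have e : lM ≫ M.ι ≫ F = i₁ ≫ U₁.ι ≫ j := by rw [hFM, hjl₁, reassoc_of% hl₁]
    have e' := congrArg (fun k : (W : Scheme.{u}) ⟶ X => k ⟨y, hy⟩) e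
    simp only [Scheme.Hom.comp_apply] at e'
    refine e'.trans (congrArg j ?_)
    rw [← Scheme.Hom.comp_apply, Scheme.homOfLE_ι]
    rfl
  have hclosed : IsClosed (Set.range F) := F.isClosedMap.isClosed_range
  let T := pullback F j.imageι
  haveI : Surjective (pullback.snd F j.imageι) := ⟨fun x => by
    have hx : j.imageι x ∈ closure (Set.range j) := by
      have : j.imageι x ∈ (j.ker.support : Set X) := by
        rw [← Scheme.IdealSheafData.range_subschemeι]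
        exact ⟨x, rfl⟩
      rwa [Scheme.Hom.support_ker] at this
    obtain ⟨z, hz⟩ := hclosed.closure_eq.le ((closure_mono hsub).trans closure_closure.le hx)
    obtain ⟨w, -, hw'⟩ := Scheme.Pullback.exists_preimage_pullback (f := F) (g := j.imageι) z x hz
    exact ⟨w, hw'⟩⟩
  haveI : IsProper (pullback.fst F j.imageι ≫ F ≫ q) :=
    MorphismProperty.comp_mem (W := @IsProper) _ _ (MorphismProperty.pullback_fst (P := @IsProper) _ _ inferInstance) inferInstance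
  haveI : UniversallyClosed (pullback.snd F j.imageι ≫ j.imageι ≫ q) := by
    rw [← pullback.condition_assoc]
    infer_instance
  haveI : UniversallyClosed (j.imageι ≫ q) := UniversallyClosed.of_comp_surjective (pullback.snd F j.imageι) _
  refine ⟨j.image, j.toImage, j.imageι ≫ q, inferInstance, inferInstance, ⟨⟩, ?_⟩
  rw [Scheme.Hom.toImage_imageι_assoc, hjq]

end Groth.Agent.RGBlowLib.Union
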