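import Groth.Agent.RGBlowLib.Union.Basic
import Groth.Agent.S1279

/-!
# Two compactifications whose boundary closures are separated
-/

set_option autoImplicit false
set_option linter.style.haveILetI false
set_option backward.isDefEq.respectTransparency false
set_option maxHeartbeats 1600000

universe u

open CategoryTheory CategoryTheory.Limits AlgebraicGeometry TopologicalSpace

noncomputable section

namespace Groth.Agent.RGBlowLib.Union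

variable {U S : Scheme.{u}}

/-- Compactifications of two opens, a modification of their common open, and separated closed subsets. -/
structure Setup (g : U ⟶ S) (U₁ U₂ : U.Opens) where
  Y₁ : Scheme.{u}
  Y₂ : Scheme.{u}
  P : Scheme.{u}
  π₁ : Y₁ ⟶ S
  π₂ : Y₂ ⟶ S
  p₁ : P ⟶ Y₁
  p₂ : P ⟶ Y₂
  hp : p₁ ≫ π₁ = p₂ ≫ π₂
  proper₁ : IsProper π₁
  proper₂ : IsProper π₂
  properP : IsProper (p₁ ≫ π₁)
  j₁ : (U₁ : Scheme.{u}) ⟶ Y₁
  j₂ : (U₂ : Scheme.{u}) ⟶ Y₂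
  open₁ : IsOpenImmersion j₁
  open₂ : IsOpenImmersion j₂
  hj₁ : j₁ ≫ π₁ = U₁.ι ≫ g
  hj₂ : j₂ ≫ π₂ = U₂.ι ≫ g
  t : ((U₁ ⊓ U₂ : U.Opens) : Scheme.{u}) ⟶ P
  ht₁ : t ≫ p₁ = U.homOfLE inf_le_left ≫ j₁
  ht₂ : t ≫ p₂ = U.homOfLE inf_le_right ≫ j₂
  iso₁ : IsIso (p₁ ∣_ (U.homOfLE (inf_le_left : U₁ ⊓ U₂ ≤ U₁) ≫ j₁).opensRange)
  iso₂ : IsIso (p₂ ∣_ (U.homOfLE (inf_le_right : U₁ ⊓ U₂ ≤ U₂) ≫ j₂).opensRange)
  cross : ∀ (x : P) (u₁ : U₁) (u₂ : U₂), p₁ x = j₁ u₁ → p₂ x = j₂ u₂ → u₁.1 = u₂.1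
  G₁ : Set Y₁
  G₂ : Set Y₂
  closed₁ : IsClosed G₁
  closed₂ : IsClosed G₂
  hG₁ : ∀ u : U₁, j₁ u ∈ G₁ ↔ u.1 ∉ U₂
  hG₂ : ∀ u : U₂, j₂ u ∈ G₂ ↔ u.1 ∉ U₁
  hK : ∀ x : P, p₁ x ∈ G₁ → p₂ x ∉ G₂

/-- Two maps to a separated scheme agree on the closure of a set on which they agree. -/
theorem eq_on_closure {O T : Scheme.{u}} (g : U ⟶ S) [IsSeparated g] (a b : O ⟶ U) (h : a ≫ g = b ≫ g)
    (i : T ⟶ O) (hi : i ≫ a = i ≫ b) (z : O) (hz : z ∈ closure (Set.range i)) : a z = b z := by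
  let e : O ⟶ pullback g g := pullback.lift a b h
  let l : T ⟶ pullback e (pullback.diagonal g) := pullback.lift i (i ≫ a) (by
    apply pullback.hom_ext
    · simp only [e, Category.assoc, pullback.lift_fst, pullback.diagonal_fst, Category.comp_id]
    · simp only [e, Category.assoc, pullback.lift_snd, pullback.diagonal_snd, Category.comp_id, hi])
  haveI : IsClosedImmersion (pullback.fst e (pullback.diagonal g)) :=
    MorphismProperty.pullback_fst (P := @IsClosedImmersion) _ _ inferInstance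
  have hcl : IsClosed (Set.range (pullback.fst e (pullback.diagonal g))) :=
    (pullback.fst e (pullback.diagonal g)).isClosedEmbedding.isClosed_range
  obtain ⟨v, rfl⟩ := closure_minimal (by
    rintro _ ⟨w, rfl⟩
    exact ⟨l w, by rw [← Scheme.Hom.comp_apply, pullback.lift_fst]⟩) hcl hz
  have h1 : pullback.fst e (pullback.diagonal g) ≫ a = pullback.snd e (pullback.diagonal g) := by
    have := congrArg (· ≫ pullback.fst g g) (pullback.condition (f := e) (g := pullback.diagonal g))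
    simpa [e] using this
  have h2 : pullback.fst e (pullback.diagonal g) ≫ b = pullback.snd e (pullback.diagonal g) := by
    have := congrArg (· ≫ pullback.snd g g) (pullback.condition (f := e) (g := pullback.diagonal g))
    simpa [e] using this
  rw [← Scheme.Hom.comp_apply, ← Scheme.Hom.comp_apply, h1, h2]

theorem exists_setup [IsNoetherian S] (g : U ⟶ S) [IsSeparated g] [LocallyOfFiniteType g] [QuasiCompact g]
    (U₁ U₂ : U.Opens)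
    {Y₁ Y₂ : Scheme.{u}} (π₁ : Y₁ ⟶ S) (π₂ : Y₂ ⟶ S) [IsProper π₁] [IsProper π₂]
    (j₁ : (U₁ : Scheme.{u}) ⟶ Y₁) (j₂ : (U₂ : Scheme.{u}) ⟶ Y₂) [IsOpenImmersion j₁] [IsOpenImmersion j₂]
    (hj₁ : j₁ ≫ π₁ = U₁.ι ≫ g) (hj₂ : j₂ ≫ π₂ = U₂.ι ≫ g) :
    Nonempty (Setup g U₁ U₂) := by
  haveI : IsNoetherian U := isNoetherian_of_ft g
  haveI : IsNoetherian Y₁ := isNoetherian_of_ft π₁
  haveI : IsNoetherian Y₂ := isNoetherian_of_ft π₂
  let W : U.Opens := U₁ ⊓ U₂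
  haveI : IsLocallyNoetherian (W : Scheme.{u}) := isLocallyNoetherian_of_isOpenImmersion W.ι
  haveI : CompactSpace (W : Scheme.{u}) := isCompact_iff_compactSpace.1 (NoetherianSpace.isCompact _)
  haveI : IsNoetherian (W : Scheme.{u}) := ⟨⟩
  let i₁ := U.homOfLE (inf_le_left : U₁ ⊓ U₂ ≤ U₁) ≫ j₁
  let i₂ := U.homOfLE (inf_le_right : U₁ ⊓ U₂ ≤ U₂) ≫ j₂
  have hi : i₁ ≫ π₁ = i₂ ≫ π₂ := by simp [i₁, i₂, hj₁, hj₂]
  let q₁ := pullback.fst π₁ π₂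
  let q₂ := pullback.snd π₁ π₂
  let τ : (W : Scheme.{u}) ⟶ pullback π₁ π₂ := pullback.lift i₁ i₂ hi
  haveI : IsProper q₁ := MorphismProperty.pullback_fst (P := @IsProper) _ _ inferInstance
  haveI : IsProper q₂ := MorphismProperty.pullback_snd (P := @IsProper) _ _ inferInstance
  haveI : QuasiCompact i₁ := inferInstance
  haveI : QuasiCompact i₂ := inferInstance
  have hτ₁ : τ ≫ q₁ = i₁ := pullback.lift_fst _ _ _
  have hτ₂ : τ ≫ q₂ = i₂ := pullback.lift_snd _ _ _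
  haveI : QuasiCompact (τ ≫ q₁) := by rw [hτ₁]; infer_instance
  haveI : QuasiCompact τ := QuasiCompact.of_comp τ q₁
  let P := τ.image
  let p₁ := τ.imageι ≫ q₁
  let p₂ := τ.imageι ≫ q₂
  let t := τ.toImage
  have ht₁ : t ≫ p₁ = i₁ := by simp [t, p₁, hτ₁]
  have ht₂ : t ≫ p₂ = i₂ := by simp [t, p₂, hτ₂]
  have hp : p₁ ≫ π₁ = p₂ ≫ π₂ := by simp [p₁, p₂, q₁, q₂, pullback.condition]
  haveI : IsProper p₁ := MorphismProperty.comp_mem (W := @IsProper) _ _ inferInstance inferInstance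
  haveI : IsProper p₂ := MorphismProperty.comp_mem (W := @IsProper) _ _ inferInstance inferInstance
  haveI : IsIso (p₁ ∣_ i₁.opensRange) := isIso_image_restrict' q₁ τ i₁ hτ₁
  haveI : IsIso (p₂ ∣_ i₂.opensRange) := isIso_image_restrict' q₂ τ i₂ hτ₂
  have hdense : ∀ x : P, x ∈ closure (Set.range t) := fun x => by
    refine τ.imageι.isClosedEmbedding.isInducing.closure_eq_preimage_closure_image (Set.range t) ▸ ?_
    rw [Set.mem_preimage, ← Set.range_comp, ← TopCat.coe_comp, ← Scheme.Hom.comp_base, τ.toImage_imageι]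
    have : τ.imageι x ∈ (τ.ker.support : Set (pullback π₁ π₂ : Scheme.{u})) := by
      rw [← Scheme.IdealSheafData.range_subschemeι]
      exact ⟨x, rfl⟩
    rwa [Scheme.Hom.support_ker] at this
  -- the points over both opens are in the common open
  have cross : ∀ (x : P) (u₁ : U₁) (u₂ : U₂), p₁ x = j₁ u₁ → p₂ x = j₂ u₂ → u₁.1 = u₂.1 := by
    intro x u₁ u₂ h₁ h₂
    let O : P.Opens := p₁ ⁻¹ᵁ j₁.opensRange ⊓ p₂ ⁻¹ᵁ j₂.opensRange
    have hxO : x ∈ O := ⟨⟨u₁, h₁.symm⟩, ⟨u₂, h₂.symm⟩⟩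
    let a₁ : (O : Scheme.{u}) ⟶ U₁ := IsOpenImmersion.lift j₁ (O.ι ≫ p₁) (by
      rintro _ ⟨z, rfl⟩; exact z.2.1)
    let a₂ : (O : Scheme.{u}) ⟶ U₂ := IsOpenImmersion.lift j₂ (O.ι ≫ p₂) (by
      rintro _ ⟨z, rfl⟩; exact z.2.2)
    have hr : Set.range t ⊆ Set.range O.ι := by
      rintro _ ⟨w, rfl⟩
      rw [Scheme.Opens.range_ι]
      exact ⟨⟨U.homOfLE inf_le_left w, by rw [← Scheme.Hom.comp_apply, ← Scheme.Hom.comp_apply t, ht₁]⟩,
        ⟨U.homOfLE inf_le_right w, by rw [← Scheme.Hom.comp_apply, ← Scheme.Hom.comp_apply t, ht₂]⟩⟩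
    let l := IsOpenImmersion.lift O.ι t hr
    have hl₁ : l ≫ a₁ = U.homOfLE inf_le_left := by
      rw [← cancel_mono j₁, Category.assoc, IsOpenImmersion.lift_fac, IsOpenImmersion.lift_fac_assoc, ht₁]
    have hl₂ : l ≫ a₂ = U.homOfLE inf_le_right := by
      rw [← cancel_mono j₂, Category.assoc, IsOpenImmersion.lift_fac, IsOpenImmersion.lift_fac_assoc, ht₂]
    have hz : (⟨x, hxO⟩ : O) ∈ closure (Set.range l) := by
      rw [O.ι.isOpenEmbedding.isInducing.closure_eq_preimage_closure_image]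
      show x ∈ closure (O.ι '' Set.range l)
      rw [← Set.range_comp, ← TopCat.coe_comp, ← Scheme.Hom.comp_base, IsOpenImmersion.lift_fac]
      exact hdense x
    have h := eq_on_closure g (a₁ ≫ U₁.ι) (a₂ ≫ U₂.ι) (by
      simp only [Category.assoc, ← hj₁, ← hj₂]
      rw [IsOpenImmersion.lift_fac_assoc, IsOpenImmersion.lift_fac_assoc]
      simp only [Category.assoc, hp]) l (by rw [reassoc_of% hl₁, reassoc_of% hl₂, Scheme.homOfLE_ι, Scheme.homOfLE_ι])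
      ⟨x, hxO⟩ hz
    have e₁ : a₁ ⟨x, hxO⟩ = u₁ := j₁.isOpenEmbedding.injective (by
      rw [← h₁, ← Scheme.Hom.comp_apply, IsOpenImmersion.lift_fac]; rfl)
    have e₂ : a₂ ⟨x, hxO⟩ = u₂ := j₂.isOpenEmbedding.injective (by
      rw [← h₂, ← Scheme.Hom.comp_apply, IsOpenImmersion.lift_fac]; rfl)
    rw [Scheme.Hom.comp_apply, Scheme.Hom.comp_apply, e₁, e₂] at h
    exact h
  -- separate the closures
  haveI : IsProper (p₁ ≫ π₁) := MorphismProperty.comp_mem (W := @IsProper) _ _ inferInstance inferInstance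
  haveI : IsNoetherian P := isNoetherian_of_ft (p₁ ≫ π₁)
  let O : P.Opens := p₁ ⁻¹ᵁ j₁.opensRange ⊔ p₂ ⁻¹ᵁ j₂.opensRange
  let T₁ : Set P := {x | ∃ u : U₁, u.1 ∉ U₂ ∧ p₁ x = j₁ u}
  let T₂ : Set P := {x | ∃ u : U₂, u.1 ∉ U₁ ∧ p₂ x = j₂ u}
  have hT₁ : IsClosed (Subtype.val ⁻¹' T₁ : Set O) := by
    rw [← isOpen_compl_iff]
    refine Eq.subst (motive := fun T => IsOpen T) ?_ ((p₁ ⁻¹ᵁ (U.homOfLE (inf_le_left : U₁ ⊓ U₂ ≤ U₁) ≫ j₁).opensRange ⊔ p₂ ⁻¹ᵁ j₂.opensRange : P.Opens).2.preimage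
      (continuous_subtype_val : Continuous (Subtype.val : O → P)))
    refine Set.ext fun ⟨x, hx⟩ => Iff.symm ?_
    constructor
    · intro hn
      rcases hx with ⟨u₁, hu₁⟩ | hx₂
      · by_cases h2 : u₁.1 ∈ U₂
        · refine Or.inl ⟨⟨u₁.1, u₁.2, h2⟩, ?_⟩
          rw [Scheme.Hom.comp_apply]
          exact (congrArg j₁ (Subtype.ext (by simp))).trans hu₁
        · exact absurd ⟨u₁, h2, hu₁.symm⟩ hn
      · exact Or.inr hx₂
    · rintro (⟨w, hw⟩ | ⟨u₂, hu₂⟩) ⟨u, hu, hxu⟩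
      · have e : u = U.homOfLE (inf_le_left : U₁ ⊓ U₂ ≤ U₁) w := j₁.isOpenEmbedding.injective (by
          rw [← hxu, ← hw, Scheme.Hom.comp_apply])
        exact hu (by rw [e]; simpa using w.2.2)
      · exact hu (cross x u u₂ hxu hu₂.symm ▸ u₂.2)
  have hT₂ : IsClosed (Subtype.val ⁻¹' T₂ : Set O) := by
    rw [← isOpen_compl_iff]
    refine Eq.subst (motive := fun T => IsOpen T) ?_ ((p₁ ⁻¹ᵁ j₁.opensRange ⊔ p₂ ⁻¹ᵁ (U.homOfLE (inf_le_right : U₁ ⊓ U₂ ≤ U₂) ≫ j₂).opensRange : P.Opens).2.preimage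
      (continuous_subtype_val : Continuous (Subtype.val : O → P)))
    refine Set.ext fun ⟨x, hx⟩ => Iff.symm ?_
    constructor
    · intro hn
      rcases hx with hx₁ | ⟨u₂, hu₂⟩
      · exact Or.inl hx₁
      · by_cases h2 : u₂.1 ∈ U₁
        · refine Or.inr ⟨⟨u₂.1, h2, u₂.2⟩, ?_⟩
          rw [Scheme.Hom.comp_apply]
          exact (congrArg j₂ (Subtype.ext (by simp))).trans hu₂
        · exact absurd ⟨u₂, h2, hu₂.symm⟩ hn
    · rintro (⟨u₁, hu₁⟩ | ⟨w, hw⟩) ⟨u, hu, hxu⟩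
      · exact hu ((cross x u₁ u hu₁.symm hxu) ▸ u₁.2)
      · have e : u = U.homOfLE (inf_le_right : U₁ ⊓ U₂ ≤ U₂) w := j₂.isOpenEmbedding.injective (by
          rw [← hxu, ← hw, Scheme.Hom.comp_apply])
        exact hu (by rw [e]; simpa using w.2.1)
  haveI : NoetherianSpace P := inferInstance
  haveI : NoetherianSpace O := NoetherianSpace.set (O : Set P)
  have hcon : ∀ {T : Set O}, IsClosed T → Topology.IsConstructible T := fun {T} hT =>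
    Topology.IsConstructible.of_compl ((NoetherianSpace.isCompact _).isConstructible hT.isOpen_compl)
  obtain ⟨I, P', π, hπ, hI, hdisj⟩ := S1279.result O (NoetherianSpace.isCompact _) _ _ hT₁ hT₂ (hcon hT₁) (hcon hT₂)
    (Set.disjoint_left.2 fun x hx₁ hx₂ => by
      obtain ⟨u, hu, h₁⟩ := hx₁
      obtain ⟨u', -, h₂⟩ := hx₂
      exact hu ((cross x.1 u u' h₁ h₂) ▸ u'.2))
  haveI : IsProper π := isProper_blowUp hπ hI
  haveI : IsNoetherian P' := isNoetherian_of_ft π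
  let C₁ : Set P' := closure (π ⁻¹' (Subtype.val '' (Subtype.val ⁻¹' T₁ : Set O)))
  let C₂ : Set P' := closure (π ⁻¹' (Subtype.val '' (Subtype.val ⁻¹' T₂ : Set O)))
  have hdisj' : Disjoint C₁ C₂ := hdisj
  -- shrink the closures in the compactifications
  let Z₁ : Set Y₁ := closure (j₁ '' {u : U₁ | u.1 ∉ U₂})
  let Z₂ : Set Y₂ := closure (j₂ '' {u : U₂ | u.1 ∉ U₁})
  have hZ₁ : ∀ u : U₁, j₁ u ∈ Z₁ ↔ u.1 ∉ U₂ := fun u => by
    have hcl : IsClosed {u : U₁ | u.1 ∉ U₂} := (U₂.2.preimage continuous_subtype_val).isClosed_compl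
    rw [show j₁ u ∈ Z₁ ↔ u ∈ j₁ ⁻¹' closure (j₁ '' {u : U₁ | u.1 ∉ U₂}) from Iff.rfl,
      ← j₁.isOpenEmbedding.isInducing.closure_eq_preimage_closure_image, hcl.closure_eq]
    rfl
  have hZ₂ : ∀ u : U₂, j₂ u ∈ Z₂ ↔ u.1 ∉ U₁ := fun u => by
    have hcl : IsClosed {u : U₂ | u.1 ∉ U₁} := (U₁.2.preimage continuous_subtype_val).isClosed_compl
    rw [show j₂ u ∈ Z₂ ↔ u ∈ j₂ ⁻¹' closure (j₂ '' {u : U₂ | u.1 ∉ U₁}) from Iff.rfl,
      ← j₂.isOpenEmbedding.isInducing.closure_eq_preimage_closure_image, hcl.closure_eq]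
    rfl
  obtain ⟨J₁, Y₁', b₁, G₁, hb₁, hJ₁, hG₁c, hG₁b, hG₁U, hr₁⟩ := exists_shrink (π ≫ p₁) j₁.opensRange Z₁ isClosed_closure
    ⟨C₁ᶜ, isClosed_closure.isOpen_compl⟩ (fun x hx hxZ hxU => by
      obtain ⟨u, hu⟩ := hxU
      have hxu : p₁ (π x) = j₁ u := (Scheme.Hom.comp_apply _ _ x).symm.trans hu.symm
      refine hx (subset_closure ⟨⟨π x, Or.inl ⟨u, hxu.symm⟩⟩, ⟨u, (hZ₁ u).1 ?_, hxu⟩, rfl⟩)
      rw [hu]
      exact hxZ)
  obtain ⟨J₂, Y₂', b₂, G₂, hb₂, hJ₂, hG₂c, hG₂b, hG₂U, hr₂⟩ := exists_shrink (π ≫ p₂) j₂.opensRange Z₂ isClosed_closure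
    ⟨C₂ᶜ, isClosed_closure.isOpen_compl⟩ (fun x hx hxZ hxU => by
      obtain ⟨u, hu⟩ := hxU
      have hxu : p₂ (π x) = j₂ u := (Scheme.Hom.comp_apply _ _ x).symm.trans hu.symm
      refine hx (subset_closure ⟨⟨π x, Or.inr ⟨u, hxu.symm⟩⟩, ⟨u, (hZ₂ u).1 ?_, hxu⟩, rfl⟩)
      rw [hu]
      exact hxZ)
  let K := J₁.comap (π ≫ p₁) * J₂.comap (π ≫ p₂)
  obtain ⟨Q, ρ, hρ⟩ := S8859.result P' K
  have hKft : BlowUp.IsFiniteTypeIdeal K := fun V => by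
    haveI := IsLocallyNoetherian.component_noetherian (X := P') V
    exact IsNoetherian.noetherian _
  haveI : IsProper ρ := BlowExistsLib.isProper_of_FG hρ hKft
  have hc₁ : BlowUp.IsEffCartierIdeal (J₁.comap (ρ ≫ π ≫ p₁)) := by
    rw [Scheme.IdealSheafData.comap_comp]
    have h := hρ.1
    rw [BlowCompLib.comap_mul] at h
    exact BlowCompLib.isEffCartier_of_mul h
  have hc₂ : BlowUp.IsEffCartierIdeal (J₂.comap (ρ ≫ π ≫ p₂)) := by
    rw [Scheme.IdealSheafData.comap_comp]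
    have h := hρ.1
    rw [BlowCompLib.comap_mul, mul_comm] at h
    exact BlowCompLib.isEffCartier_of_mul h
  obtain ⟨r₁, hr₁', -⟩ := hb₁.2 Q _ hc₁
  obtain ⟨r₂, hr₂', -⟩ := hb₂.2 Q _ hc₂
  haveI : IsProper b₁ := isProper_blowUp hb₁ hJ₁
  haveI : IsProper b₂ := isProper_blowUp hb₂ hJ₂
  obtain ⟨j₁', hj₁'o, hj₁', hj₁r⟩ := exists_lift_open hb₁ j₁ hJ₁
  obtain ⟨j₂', hj₂'o, hj₂', hj₂r⟩ := exists_lift_open hb₂ j₂ hJ₂
  have htO : ∀ w, t w ∈ O := fun w => Or.inl ⟨U.homOfLE inf_le_left w, by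
    rw [← Scheme.Hom.comp_apply, ← Scheme.Hom.comp_apply t, ht₁]⟩
  obtain ⟨t', ht', -⟩ := hπ.2 _ t (effCartier_of_adm I t O hI htO)
  have hKt : BlowUp.IsEffCartierIdeal (K.comap t') := by
    rw [BlowCompLib.comap_mul, ← Scheme.IdealSheafData.comap_comp, ← Scheme.IdealSheafData.comap_comp,
      reassoc_of% ht', reassoc_of% ht', ht₁, ht₂]
    exact BlowCompLib.isEffCartier_mul (effCartier_of_adm J₁ i₁ _ hJ₁ fun w => ⟨_, rfl⟩)
      (effCartier_of_adm J₂ i₂ _ hJ₂ fun w => ⟨_, rfl⟩)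
  obtain ⟨t'', ht'', -⟩ := hρ.2 _ t' hKt
  have htr₁ : t'' ≫ r₁ = U.homOfLE inf_le_left ≫ j₁' :=
    (hb₁.2 _ i₁ (effCartier_of_adm J₁ i₁ _ hJ₁ fun w => ⟨_, rfl⟩)).unique
      (by rw [Category.assoc, hr₁', reassoc_of% ht'', reassoc_of% ht', ht₁])
      (by rw [Category.assoc, hj₁'])
  have htr₂ : t'' ≫ r₂ = U.homOfLE inf_le_right ≫ j₂' :=
    (hb₂.2 _ i₂ (effCartier_of_adm J₂ i₂ _ hJ₂ fun w => ⟨_, rfl⟩)).unique
      (by rw [Category.assoc, hr₂', reassoc_of% ht'', reassoc_of% ht', ht₂])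
      (by rw [Category.assoc, hj₂'])
  -- the centres avoid the common open
  have hρπ : ∀ (p : P ⟶ Y₁) (R : P.Opens), R ≤ O → (∀ x ∈ R, x ∈ Set.range t) → IsIso ((ρ ≫ π) ∣_ R) := by
    intro _ R hRO hRt
    haveI : IsIso (π ∣_ R) := isIso_restrict_adm hπ R ⟨hI.1, hI.2.mono_right hRO⟩
    haveI : IsIso (ρ ∣_ (π ⁻¹ᵁ R)) := isIso_restrict_adm hρ _ ⟨hKft, Set.disjoint_left.2 fun x hx hxR => by
      obtain ⟨w, hw⟩ := hRt _ hxR
      rw [Scheme.IdealSheafData.support_mul, Closeds.coe_sup, Scheme.IdealSheafData.support_comap,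
        Scheme.IdealSheafData.support_comap] at hx
      rcases hx with hx | hx
      · refine Set.disjoint_left.1 hJ₁.2 (show (π ≫ p₁) x ∈ J₁.support from hx) ⟨U.homOfLE inf_le_left w, ?_⟩
        rw [Scheme.Hom.comp_apply π p₁, ← hw, ← Scheme.Hom.comp_apply t, ht₁, Scheme.Hom.comp_apply]
      · refine Set.disjoint_left.1 hJ₂.2 (show (π ≫ p₂) x ∈ J₂.support from hx) ⟨U.homOfLE inf_le_right w, ?_⟩
        rw [Scheme.Hom.comp_apply π p₂, ← hw, ← Scheme.Hom.comp_apply t, ht₂, Scheme.Hom.comp_apply]⟩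
    rw [morphismRestrict_comp]
    infer_instance
  haveI : IsIso ((ρ ≫ π) ∣_ (p₁ ⁻¹ᵁ i₁.opensRange)) := hρπ p₁ _
    (fun x hx => Or.inl (by obtain ⟨w, hw⟩ := hx; exact ⟨U.homOfLE inf_le_left w, (Scheme.Hom.comp_apply _ _ w).symm.trans hw⟩))
    (fun x hx => by obtain ⟨w, hw⟩ := hx; exact ⟨w, (eq_of_mem_iso p₁ t i₁ ht₁ x w hw.symm).symm⟩)
  haveI : IsIso ((ρ ≫ π) ∣_ (p₂ ⁻¹ᵁ i₂.opensRange)) := hρπ p₁ _
    (fun x hx => Or.inr (by obtain ⟨w, hw⟩ := hx; exact ⟨U.homOfLE inf_le_right w, (Scheme.Hom.comp_apply _ _ w).symm.trans hw⟩))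
    (fun x hx => by obtain ⟨w, hw⟩ := hx; exact ⟨w, (eq_of_mem_iso p₂ t i₂ ht₂ x w hw.symm).symm⟩)
  haveI := hj₁'o
  haveI := hj₂'o
  haveI : IsIso (b₁ ∣_ i₁.opensRange) := isIso_restrict_adm hb₁ _ ⟨hJ₁.1, hJ₁.2.mono_right (by
    rintro _ ⟨w, rfl⟩; exact ⟨_, rfl⟩)⟩
  haveI : IsIso (b₂ ∣_ i₂.opensRange) := isIso_restrict_adm hb₂ _ ⟨hJ₂.1, hJ₂.2.mono_right (by
    rintro _ ⟨w, rfl⟩; exact ⟨_, rfl⟩)⟩
  have hR₁ : (U.homOfLE (inf_le_left : U₁ ⊓ U₂ ≤ U₁) ≫ j₁').opensRange = b₁ ⁻¹ᵁ i₁.opensRange := by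
    ext y
    constructor
    · rintro ⟨w, rfl⟩
      exact ⟨w, by rw [← Scheme.Hom.comp_apply, Category.assoc, hj₁']⟩
    · rintro ⟨w, hw⟩
      obtain ⟨u, rfl⟩ := hj₁r.ge (show y ∈ b₁ ⁻¹ᵁ j₁.opensRange from ⟨_, hw⟩)
      refine ⟨w, ?_⟩
      rw [Scheme.Hom.comp_apply]
      refine congrArg j₁' (j₁.isOpenEmbedding.injective ?_)
      rw [← Scheme.Hom.comp_apply j₁', hj₁'] at hw
      exact hw
  have hR₂ : (U.homOfLE (inf_le_right : U₁ ⊓ U₂ ≤ U₂) ≫ j₂').opensRange = b₂ ⁻¹ᵁ i₂.opensRange := by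
    ext y
    constructor
    · rintro ⟨w, rfl⟩
      exact ⟨w, by rw [← Scheme.Hom.comp_apply, Category.assoc, hj₂']⟩
    · rintro ⟨w, hw⟩
      obtain ⟨u, rfl⟩ := hj₂r.ge (show y ∈ b₂ ⁻¹ᵁ j₂.opensRange from ⟨_, hw⟩)
      refine ⟨w, ?_⟩
      rw [Scheme.Hom.comp_apply]
      refine congrArg j₂' (j₂.isOpenEmbedding.injective ?_)
      rw [← Scheme.Hom.comp_apply j₂', hj₂'] at hw
      exact hw
  exact ⟨{
    Y₁ := Y₁', Y₂ := Y₂', P := Q, π₁ := b₁ ≫ π₁, π₂ := b₂ ≫ π₂, p₁ := r₁, p₂ := r₂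
    hp := by
      rw [reassoc_of% hr₁', reassoc_of% hr₂', hp]
    proper₁ := inferInstance, proper₂ := inferInstance
    properP := by
      rw [reassoc_of% hr₁']
      infer_instance
    j₁ := j₁', j₂ := j₂', open₁ := hj₁'o, open₂ := hj₂'o
    hj₁ := by rw [reassoc_of% hj₁', hj₁]
    hj₂ := by rw [reassoc_of% hj₂', hj₂]
    t := t'', ht₁ := htr₁, ht₂ := htr₂
    iso₁ := by
      rw [hR₁]
      exact isIso_square p₁ i₁.opensRange b₁ (ρ ≫ π) r₁ (by rw [hr₁', Category.assoc])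
    iso₂ := by
      rw [hR₂]
      exact isIso_square p₂ i₂.opensRange b₂ (ρ ≫ π) r₂ (by rw [hr₂', Category.assoc])
    cross := fun x u₁ u₂ h₁ h₂ => cross (π (ρ x)) u₁ u₂
      (by have h := congrArg b₁ h₁; rw [← Scheme.Hom.comp_apply, ← Scheme.Hom.comp_apply, hr₁', hj₁'] at h; exact h)
      (by have h := congrArg b₂ h₂; rw [← Scheme.Hom.comp_apply, ← Scheme.Hom.comp_apply, hr₂', hj₂'] at h; exact h)
    G₁ := G₁, G₂ := G₂, closed₁ := hG₁c, closed₂ := hG₂c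
    hG₁ := fun u => by
      have hu : b₁ (j₁' u) = j₁ u := by rw [← Scheme.Hom.comp_apply, hj₁']
      exact ⟨fun h => (hZ₁ u).1 (hu ▸ hG₁b _ h), fun h => hG₁U _ (hu.symm ▸ (hZ₁ u).2 h) ⟨u, hu.symm⟩⟩
    hG₂ := fun u => by
      have hu : b₂ (j₂' u) = j₂ u := by rw [← Scheme.Hom.comp_apply, hj₂']
      exact ⟨fun h => (hZ₂ u).1 (hu ▸ hG₂b _ h), fun h => hG₂U _ (hu.symm ▸ (hZ₂ u).2 h) ⟨u, hu.symm⟩⟩
    hK := fun x h₁ h₂ => by
      have e₁ : ρ x ∈ C₁ := by_contra fun h => hr₁ Q ρ r₁ hr₁' hc₁ x h h₁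
      have e₂ : ρ x ∈ C₂ := by_contra fun h => hr₂ Q ρ r₂ hr₂' hc₂ x h h₂
      exact Set.disjoint_left.1 hdisj' e₁ e₂ }⟩

end Groth.Agent.RGBlowLib.Union
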