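import Groth.Agent.RGBlowLib.Target

/-!
# Making the closure of a closed subset small by a blow-up
-/

set_option autoImplicit false
set_option linter.style.haveILetI false
set_option backward.isDefEq.respectTransparency false
set_option maxHeartbeats 800000

universe u

open CategoryTheory CategoryTheory.Limits AlgebraicGeometry TopologicalSpace

noncomputable section

namespace Groth.Agent.RGBlowLib.Union

variable {X Y P Q : Scheme.{u}}

/-- A subscheme supported in a closed subscheme is contained in a thickening of it. -/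
theorem exists_pow_le [IsNoetherian X] (I J : X.IdealSheafData)
    (h : (J.support : Set X) ⊆ (I.support : Set X)) : ∃ n : ℕ, I ^ (n + 1) ≤ J := by
  classical
  have hIJ : I ≤ J.radical := by
    rw [← Scheme.IdealSheafData.vanishingIdeal_support]
    exact (Scheme.IdealSheafData.le_radical I).trans (by
      rw [← Scheme.IdealSheafData.vanishingIdeal_support]
      exact Scheme.IdealSheafData.gc.monotone_u (show (J.support : TopologicalSpace.Closeds X) ≤ I.support from h))
  obtain ⟨t, ht⟩ := isCompact_univ.elim_finite_subcover (fun U : X.affineOpens => (U.1 : Set X)) (fun U => U.1.2)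
    fun x _ => by
      obtain ⟨_, ⟨U : X.Opens, hU, rfl⟩, hxU, -⟩ :=
        X.isBasis_affineOpens.exists_subset_of_mem_open (Set.mem_univ x) isOpen_univ
      exact Set.mem_iUnion.2 ⟨⟨U, hU⟩, hxU⟩
  have hex : ∀ U : X.affineOpens, ∃ n, (I.ideal U) ^ n ≤ J.ideal U := fun U => by
    haveI := IsLocallyNoetherian.component_noetherian (X := X) U
    refine Ideal.exists_pow_le_of_le_radical_of_fg (hIJ U) (IsNoetherian.noetherian _)
  choose e he using hex
  refine ⟨t.sup e, Scheme.IdealSheafData.le_of_iSup_eq_top (fun U : t => (U : X.affineOpens)) ?_ fun U => ?_⟩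
  · refine top_le_iff.1 fun x _ => ?_
    obtain ⟨U, hU, hxU⟩ := Set.mem_iUnion₂.1 (ht (Set.mem_univ x))
    exact TopologicalSpace.Opens.mem_iSup.2 ⟨⟨U, hU⟩, hxU⟩
  · rw [Scheme.IdealSheafData.ideal_pow, Pi.pow_apply]
    exact (Ideal.pow_le_pow_right (Nat.le_succ_of_le (Finset.le_sup U.2))).trans (he U)

theorem comap_pow (I : Y.IdealSheafData) (f : X ⟶ Y) (n : ℕ) : (I ^ n).comap f = (I.comap f) ^ n := by
  induction n with
  | zero =>
    rw [pow_zero, pow_zero, Scheme.IdealSheafData.one_eq_top, Scheme.IdealSheafData.one_eq_top]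
    exact BlowCompLib.comap_eq_top _ _ fun y h => by simp at h; exact h.elim
  | succ n ih => rw [pow_succ, pow_succ, BlowCompLib.comap_mul, ih]

/-- Ideal sheaves which agree on an affine open have the same ideal there. -/
theorem ideal_eq_of_comap_eq {A B : X.IdealSheafData} (W : X.affineOpens)
    (h : A.comap W.1.ι = B.comap W.1.ι) : A.ideal W = B.ideal W := by
  haveI : IsAffine (W.1 : Scheme.{u}) := W.2
  have hle : (⊤ : (W.1 : Scheme.{u}).Opens) ≤ W.1.ι ⁻¹ᵁ W.1 := W.1.ι_preimage_self.ge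
  haveI : IsIso (homOfLE hle) := ⟨⟨homOfLE le_top, Subsingleton.elim _ _, Subsingleton.elim _ _⟩⟩
  haveI : IsIso (W.1.ι.app W.1) := W.1.ι.isIso_app W.1 (by simp)
  haveI : IsIso (W.1.ι.appLE W.1 ⊤ hle) := by rw [Scheme.Hom.appLE]; infer_instance
  have hb : Function.Bijective (W.1.ι.appLE W.1 ⊤ hle).hom := ConcreteCategory.bijective_of_isIso _
  have e : ∀ K : X.IdealSheafData, ((K.comap W.1.ι).ideal ⟨⊤, isAffineOpen_top _⟩).comap (W.1.ι.appLE W.1 ⊤ hle).hom = K.ideal W :=
    fun K => by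
    rw [IdealStalkLib.comap_ideal K W.1.ι W.2 (isAffineOpen_top _) hle, Ideal.comap_map_of_bijective _ hb]
  rw [← e A, ← e B, h]

/-- An ideal sheaf is trivial on a basic open containing one of its sections. -/
theorem notMem_support_of_mem {I : X.IdealSheafData} {V : X.affineOpens} {x : X} (hx : x ∈ V.1)
    {a : Γ(X, V.1)} (ha : a ∈ I.ideal V) (hxa : x ∈ X.basicOpen a) : x ∉ I.support := fun h => by
  rw [Scheme.IdealSheafData.mem_support_iff_of_mem hx, Scheme.mem_zeroLocus_iff] at h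
  exact h a ha hxa

theorem ideal_le_of_support (I : X.IdealSheafData) {V : X.affineOpens} (h : ∀ x ∈ V.1, x ∉ I.support) :
    I.ideal V = ⊤ := by
  by_contra hne
  obtain ⟨m, hm, hle⟩ := Ideal.exists_le_maximal _ hne
  let q : PrimeSpectrum Γ(X, V.1) := ⟨m, hm.isPrime⟩
  have hz : V.2.fromSpec q ∈ V.1 := by rw [← SetLike.mem_coe, ← V.2.range_fromSpec]; exact ⟨q, rfl⟩
  refine h _ hz ?_
  rw [Scheme.IdealSheafData.mem_support_iff_of_mem hz, Scheme.mem_zeroLocus_iff]
  intro z hz' hzb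
  rw [← Scheme.Hom.mem_preimage, V.2.fromSpec_preimage_basicOpen] at hzb
  exact hzb (hle hz')

/-- After blowing up a centre off `U`, a closed set `G` gets a closed preimage avoiding all points over which
`G` was only met outside `U`. -/
theorem exists_shrink [IsNoetherian Y] [IsNoetherian P] (p : P ⟶ Y) (U : Y.Opens) (G : Set Y) (hG : IsClosed G)
    (O : P.Opens) (hO : ∀ x ∈ O, p x ∈ G → p x ∉ U) :
    ∃ (J : Y.IdealSheafData) (Y' : Scheme.{u}) (b : Y' ⟶ Y) (G' : Set Y'), BlowUp.IsBlowUp b J ∧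
      BlowUp.IsAdmissibleFor U J ∧ IsClosed G' ∧ (∀ y ∈ G', b y ∈ G) ∧ (∀ y, b y ∈ G → b y ∈ U → y ∈ G') ∧
      ∀ (Q : Scheme.{u}) (π : Q ⟶ P) (r : Q ⟶ Y'), r ≫ b = π ≫ p → BlowUp.IsEffCartierIdeal (J.comap (π ≫ p)) →
        ∀ z : Q, π z ∈ O → r z ∉ G' := by
  let IG := Scheme.IdealSheafData.vanishingIdeal (X := Y) ⟨G, hG⟩
  have hC : IsClosed (G \ (U : Set Y)) := hG.sdiff U.2
  let IC := Scheme.IdealSheafData.vanishingIdeal (X := Y) ⟨G \ (U : Set Y), hC⟩
  have hsG : (IG.support : Set Y) = G := by simp [IG]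
  have hsC : (IC.support : Set Y) = G \ (U : Set Y) := by simp [IC]
  haveI : IsLocallyNoetherian (O : Scheme.{u}) := isLocallyNoetherian_of_isOpenImmersion O.ι
  haveI : NoetherianSpace P := inferInstance
  haveI : CompactSpace (O : Scheme.{u}) := isCompact_iff_compactSpace.1 (NoetherianSpace.isCompact _)
  haveI : IsNoetherian (O : Scheme.{u}) := ⟨⟩
  obtain ⟨n, hn⟩ := exists_pow_le (IC.comap (O.ι ≫ p)) (IG.comap (O.ι ≫ p)) (by
    rw [Scheme.IdealSheafData.support_comap, Scheme.IdealSheafData.support_comap]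
    intro x hx
    have hx' : (O.ι ≫ p) x ∈ G := hsG.le hx
    exact hsC.ge ⟨hx', hO x.1 x.2 hx'⟩)
  let J := IC ^ (n + 1) ⊔ IG
  have hft : BlowUp.IsFiniteTypeIdeal J := fun V => by
    haveI := IsLocallyNoetherian.component_noetherian (X := Y) V
    exact IsNoetherian.noetherian _
  have hJG : IG ≤ J := le_sup_right
  have hsupp : ∀ y, y ∈ J.support → y ∈ G ∧ y ∉ U := fun y hy => by
    have h1 : y ∈ (IC ^ (n + 1)).support := Scheme.IdealSheafData.support_antitone le_sup_left hy
    rw [Scheme.IdealSheafData.support_pow_succ] at h1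
    exact hsC.le h1
  obtain ⟨Y', b, hb⟩ := S8859.result Y J
  let E := J.comap b
  let I' := IG.comap b
  have hI'E : I' ≤ E := Scheme.IdealSheafData.comap_mono (f := b) hJG
  let good := {V : Y'.affineOpens // I'.ideal V = E.ideal V}
  let G' : Set Y' := (((⨆ V : good, V.1.1) : Y'.Opens) : Set Y')ᶜ
  refine ⟨J, Y', b, G', hb, ⟨hft, Set.disjoint_left.2 fun y hy hyU => (hsupp y hy).2 hyU⟩,
    (⨆ V : good, V.1.1).2.isClosed_compl, fun y hy => ?_, fun y hy hyU hmem => ?_, fun Q π r hr hQ z hz hzG => ?_⟩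
  · by_contra hyG
    obtain ⟨V, hV, hyV, hVle⟩ := exists_isAffineOpen_mem_and_subset (U := b ⁻¹ᵁ ⟨Gᶜ, hG.isOpen_compl⟩) (x := y) hyG
    refine hy (Opens.mem_iSup.2 ⟨⟨⟨V, hV⟩, ?_⟩, hyV⟩)
    have h1 : I'.ideal ⟨V, hV⟩ = ⊤ := ideal_le_of_support _ fun x hx h => by
      rw [Scheme.IdealSheafData.support_comap] at h
      exact hVle hx (hsG.le h)
    rw [h1, eq_comm, eq_top_iff, ← h1]
    exact hI'E _
  · obtain ⟨⟨V, hV⟩, hyV⟩ := Opens.mem_iSup.1 hmem
    have hyI : y ∈ I'.support := by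
      rw [Scheme.IdealSheafData.support_comap]
      exact hsG.ge hy
    rw [Scheme.IdealSheafData.mem_support_iff_of_mem hyV, hV, ← Scheme.IdealSheafData.mem_support_iff_of_mem hyV,
      Scheme.IdealSheafData.support_comap] at hyI
    exact (hsupp _ hyI).2 hyU
  · -- near `r z` the exceptional ideal is principal
    obtain ⟨V, hyV, e, he, hE⟩ := hb.1 (r z)
    obtain ⟨W₀, hzW₀, f₀, hf₀, hW₀⟩ := hQ z
    obtain ⟨t, ht, hzt⟩ := W₀.2.exists_basicOpen_le (V := W₀.1 ⊓ (r ⁻¹ᵁ V.1 ⊓ π ⁻¹ᵁ O)) ⟨z, hzW₀, hyV, hz⟩ hzW₀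
    obtain ⟨f, hf, hW⟩ := RelDivLib.generator_res (J.comap (π ≫ p)) W₀ t hf₀ hW₀
    let W : Q.affineOpens := Q.affineBasicOpen (U := W₀) t
    have hWV : W.1 ≤ r ⁻¹ᵁ V.1 := ht.trans (inf_le_right.trans inf_le_left)
    have hWO : W.1 ≤ π ⁻¹ᵁ O := ht.trans (inf_le_right.trans inf_le_right)
    let θ := (r.appLE V.1 W.1 hWV).hom
    have hEW : (J.comap (π ≫ p)).ideal W = Ideal.span {θ e} := by
      rw [← hr, Scheme.IdealSheafData.comap_comp, IdealStalkLib.comap_ideal (J.comap b) r V.2 W.2 hWV]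
      show ((E.ideal V).map θ) = _
      rw [hE, Ideal.map_span, Set.image_singleton]
    have hθe : θ e ∈ nonZeroDivisors Γ(Q, W.1) := by
      obtain ⟨c, hc⟩ := Ideal.mem_span_singleton'.1 ((hEW.symm.trans hW).ge (Ideal.mem_span_singleton_self f))
      exact (mul_mem_nonZeroDivisors.1 (hc.symm ▸ hf : c * θ e ∈ nonZeroDivisors Γ(Q, W.1))).2
    have hWeq : (IG.comap (π ≫ p)).ideal W = (J.comap (π ≫ p)).ideal W := by
      refine ideal_eq_of_comap_eq W ?_
      have hl : Set.range (W.1.ι ≫ π) ⊆ Set.range O.ι := by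
        rintro _ ⟨w, rfl⟩
        rw [Scheme.Opens.range_ι]
        exact hWO w.2
      have hfac : W.1.ι ≫ π ≫ p = IsOpenImmersion.lift O.ι (W.1.ι ≫ π) hl ≫ O.ι ≫ p := by
        rw [IsOpenImmersion.lift_fac_assoc, Category.assoc]
      rw [← Scheme.IdealSheafData.comap_comp, ← Scheme.IdealSheafData.comap_comp, hfac,
        Scheme.IdealSheafData.comap_comp, Scheme.IdealSheafData.comap_comp J]
      congr 1
      rw [show J = IC ^ (n + 1) ⊔ IG from rfl, Scheme.IdealSheafData.comap_sup, comap_pow, eq_comm, sup_eq_right]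
      exact hn
    let K : Ideal Γ(Y', V.1) :=
      { carrier := {k | e * k ∈ I'.ideal V}
        zero_mem' := by simp
        add_mem' := fun {x y} hx hy => by
          show e * (x + y) ∈ I'.ideal V
          rw [mul_add]
          exact add_mem hx hy
        smul_mem' := fun c x hx => by
          show e * (c • x) ∈ I'.ideal V
          rw [smul_eq_mul, mul_left_comm]
          exact Ideal.mul_mem_left _ c hx }
    have hK : ∀ k ∈ K, r z ∉ Y'.basicOpen k := fun k hk hzk => by
      refine hzG (Opens.mem_iSup.2 ⟨⟨Y'.affineBasicOpen (U := V) k, ?_⟩, hzk⟩)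
      refine le_antisymm (hI'E _) ?_
      rw [← E.map_ideal_basicOpen V k, ← I'.map_ideal_basicOpen V k, hE, Ideal.map_span, Set.image_singleton,
        Ideal.span_singleton_le_iff_mem]
      letI : Algebra Γ(Y', V.1) Γ(Y', Y'.basicOpen k) := (Y'.presheaf.map (homOfLE (Y'.basicOpen_le k)).op).hom.toAlgebra
      haveI : IsLocalization.Away k Γ(Y', Y'.basicOpen k) := V.2.isLocalization_basicOpen k
      have h1 := Ideal.mem_map_of_mem (algebraMap Γ(Y', V.1) Γ(Y', Y'.basicOpen k)) (show e * k ∈ I'.ideal V from hk)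
      rw [map_mul, Ideal.mul_unit_mem_iff_mem _ (IsLocalization.Away.algebraMap_isUnit (S := Γ(Y', Y'.basicOpen k)) k)] at h1
      exact h1
    have hIK : I'.ideal V = Ideal.span {e} * K := by
      refine le_antisymm (fun x hx => ?_) (fun x hx => ?_)
      · obtain ⟨c, rfl⟩ := Ideal.mem_span_singleton'.1 (hE ▸ hI'E V hx)
        rw [mul_comm c e]
        exact Ideal.mul_mem_mul (Ideal.mem_span_singleton_self e) (show e * c ∈ I'.ideal V by rwa [mul_comm])
      · obtain ⟨k, hk, rfl⟩ := Ideal.mem_span_singleton_mul.1 hx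
        exact hk
    have hIW : (IG.comap (π ≫ p)).ideal W = Ideal.span {θ e} * K.map θ := by
      rw [← hr, Scheme.IdealSheafData.comap_comp, IdealStalkLib.comap_ideal (IG.comap b) r V.2 W.2 hWV]
      show (I'.ideal V).map θ = _
      rw [hIK, Ideal.map_mul, Ideal.map_span, Set.image_singleton]
    obtain ⟨s, hs, hse⟩ := Ideal.mem_span_singleton_mul.1
      (((hIW.symm.trans hWeq).trans hEW).ge (Ideal.mem_span_singleton_self (θ e)))
    have hs1 : s = 1 := (mul_cancel_left_mem_nonZeroDivisors hθe).1 (by rw [hse, mul_one])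
    have hzW : z ∈ W.1 := hzt
    let γ := (Q.presheaf.germ W.1 z hzW).hom
    have hle : K.map θ ≤ (IsLocalRing.maximalIdeal (Q.presheaf.stalk z)).comap γ :=
      Ideal.map_le_iff_le_comap.2 fun k hk => by
        rw [Ideal.mem_comap, Ideal.mem_comap, IsLocalRing.mem_maximalIdeal, mem_nonunits_iff]
        intro hu
        refine hK k hk ?_
        have h2 : z ∈ Q.basicOpen (θ k) := (Q.mem_basicOpen _ z hzW).2 hu
        rw [show θ k = (r.appLE V.1 W.1 hWV) k from rfl, Scheme.Hom.appLE, CommRingCat.comp_apply, Scheme.basicOpen_res,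
          ← Scheme.preimage_basicOpen] at h2
        exact h2.2
    have h3 := hle hs
    rw [hs1, Ideal.mem_comap, map_one, IsLocalRing.mem_maximalIdeal] at h3
    exact h3 isUnit_one

end Groth.Agent.RGBlowLib.Union
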